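import Cfsg.Agent.Lib.BalPSL.Rat
import Cfsg.Agent.Lib.AutPSL.NTwo

/-!
# The `p'`-core criterion for field automorphisms of `PSL_n(F)`
-/

set_option autoImplicit false

namespace Cfsg.Agent.Lib.BalPSL

open Matrix
open scoped MatrixGroups
open Cfsg.Agent.Lib.AutPSL Cfsg.Agent.Lib.Hilbert90
open Cfsg.Agent.Lib.AutPOm (fixP mem_fixP conj_conj_aut eq_one_of_conj_eq_one)

variable {F : Type*} [Field F] {n : ℕ}

lemma pow_eq_one_of_fix'' [Fintype F] (σ τ : F ≃+* F) {p : ℕ} (hord : orderOf σ = p)
    (h : ∀ a ∈ fixedF σ, τ a = a) : τ ^ p = 1 := by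
  classical
  have hcard : Nat.card F = Nat.card (fixedF σ) ^ p := card_eq_card_fixedF_pow σ hord
  haveI : Fintype (fixedF σ) := Fintype.ofFinite _
  have h1 : Module.finrank (fixedF σ) F = p := by
    have h2 := Module.card_eq_pow_finrank (K := fixedF σ) (V := F)
    rw [Nat.card_eq_fintype_card, Nat.card_eq_fintype_card] at hcard
    rw [hcard] at h2
    have h3 : 1 < Fintype.card (fixedF σ) := Fintype.one_lt_card
    exact (Nat.pow_right_injective h3 h2).symm
  have h2 : Nat.card (F ≃ₐ[fixedF σ] F) = p := by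
    rw [← h1]
    exact IsGalois.card_aut_eq_finrank _ _
  let τ' : F ≃ₐ[fixedF σ] F := AlgEquiv.ofRingEquiv (f := τ) (fun a => h a.1 a.2)
  have h3 : τ' ^ p = 1 := by
    rw [← h2]
    exact pow_card_eq_one'
  have h4 : ∀ (n : ℕ) (x : F), (τ' ^ n) x = (τ ^ n) x := by
    intro n
    induction n with
    | zero =>
      intro x
      rfl
    | succ n ih =>
      intro x
      rw [pow_succ, pow_succ]
      change (τ' ^ n) (τ' x) = (τ ^ n) (τ x)
      rw [ih]
      rfl
  ext x
  rw [← h4, h3]
  rfl

section field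

variable (σ : F ≃+* F)

lemma fa_wR (s : SpecialLinearGroup (Fin n) (fixedF σ)) :
    (fa σ : MulAut (ProjectiveSpecialLinearGroup (Fin n) F)) (wR (fixedF σ).subtype s) = wR (fixedF σ).subtype s := by
  rw [wR_apply, fa, csAut_mk]
  congr 1
  apply sl_ext
  rw [slMap_coe]
  ext i j
  have h : σ ((fixedF σ).subtype ((s : Matrix (Fin n) (Fin n) (fixedF σ)) i j)) = (fixedF σ).subtype ((s : Matrix (Fin n) (Fin n) (fixedF σ)) i j) :=
    ((s : Matrix (Fin n) (Fin n) (fixedF σ)) i j).2
  simpa using h

/-- An element fixed by `fa σ` normalises the image of `SL_n` of the fixed field. -/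
lemma fix_normalises (hn : 2 ≤ n) {p : ℕ} (hp : 0 < p) (hord : orderOf σ = p)
    {k : ProjectiveSpecialLinearGroup (Fin n) F} (hk : (fa σ : MulAut (ProjectiveSpecialLinearGroup (Fin n) F)) k = k)
    (t : SpecialLinearGroup (Fin n) (fixedF σ)) :
    ∃ t', k * wR (fixedF σ).subtype t * k⁻¹ = wR (fixedF σ).subtype t' := by
  obtain ⟨s, rfl⟩ := QuotientGroup.mk_surjective k
  set u : GL (Fin n) F := Matrix.SpecialLinearGroup.toGL s with hu
  have hconj : MulAut.conj (QuotientGroup.mk s : ProjectiveSpecialLinearGroup (Fin n) F) = dl u := csAut_conj s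
  have hcomm : Commute (dl u) (fa σ : MulAut (ProjectiveSpecialLinearGroup (Fin n) F)) := by
    have h1 := conj_conj_aut (fa σ : MulAut (ProjectiveSpecialLinearGroup (Fin n) F)) (QuotientGroup.mk s)
    rw [hk, hconj] at h1
    change dl u * fa σ = fa σ * dl u
    conv_lhs => rw [← h1]
    group
  obtain ⟨c, hc⟩ := (commute_dl_fa_iff hn u σ).mp hcomm
  obtain ⟨d, hd⟩ := exists_fixed_of_commute (by omega) σ hp hord u hc
  set u' := u * Matrix.GeneralLinearGroup.scalar (Fin n) d with hu'
  have hdl : dl u' = dl u := csAut_scalar_mul _ _ _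
  set M : SpecialLinearGroup (Fin n) F := slMap u' (RingEquiv.refl F) (Matrix.SpecialLinearGroup.map (fixedF σ).subtype t) with hM
  have hfix : ∀ i j, σ ((M : Matrix (Fin n) (Fin n) F) i j) = (M : Matrix (Fin n) (Fin n) F) i j := by
    have h1 : (M : Matrix (Fin n) (Fin n) F).map σ = M := by
      rw [hM, slMap_coe, Matrix.map_mul, Matrix.map_mul]
      have e1 : (u' : Matrix (Fin n) (Fin n) F).map σ = u' := congrArg Units.val hd
      have e2 : ((u'⁻¹ : GL (Fin n) F) : Matrix (Fin n) (Fin n) F).map σ = ((u'⁻¹ : GL (Fin n) F) : Matrix (Fin n) (Fin n) F) := by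
        have := congrArg Units.val (map_inv (glMap (n := n) σ) u')
        rw [hd] at this
        exact this
      rw [e1, e2]
      congr 2
      ext i j
      exact ((t : Matrix (Fin n) (Fin n) (fixedF σ)) i j).2
    intro i j
    exact congrFun (congrFun h1 i) j
  obtain ⟨t', ht'⟩ := exists_lift_fixed σ M hfix
  refine ⟨t', ?_⟩
  have h2 := (MulAut.conj_apply (QuotientGroup.mk s : ProjectiveSpecialLinearGroup (Fin n) F) (wR (fixedF σ).subtype t))
  rw [hconj, ← hdl, wR_apply, csAut_mk, ← hM, ← ht'] at h2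
  exact h2.symm

/-- The order of the fixed point group. -/
lemma card_fix_dvd [Fintype F] (hcent : Subgroup.center (ProjectiveSpecialLinearGroup (Fin n) F) = ⊥) (hn : 2 ≤ n)
    {p : ℕ} (hp : 0 < p) (hord : orderOf σ = p) :
    Nat.card (fixP (fa σ : MulAut (ProjectiveSpecialLinearGroup (Fin n) F))) ∣
      Nat.card (SpecialLinearGroup (Fin n) (fixedF σ)) := by
  classical
  haveI : Fintype (fixedF σ) := Fintype.ofFinite _
  obtain ⟨e⟩ := field_cent_equiv (F₀ := fixedF σ) hn σ hp hord (by rw [Nat.card_eq_fintype_card])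
  rw [← Cfsg.Agent.Lib.ClassicalCore.card_PGL_eq_card_SL, ← Nat.card_congr e.toEquiv]
  have hmem : ∀ k : fixP (fa σ : MulAut (ProjectiveSpecialLinearGroup (Fin n) F)),
      MulAut.conj k.1 ∈ Cfsg.inndiagPSL n F ⊓ Subgroup.centralizer {(fa σ : MulAut (ProjectiveSpecialLinearGroup (Fin n) F))} := by
    intro k
    constructor
    · obtain ⟨s, hs⟩ := QuotientGroup.mk_surjective k.1
      rw [← hs, csAut_conj]
      exact dl_mem_inndiag _
    · change MulAut.conj k.1 ∈ Subgroup.centralizer {(fa σ : MulAut (ProjectiveSpecialLinearGroup (Fin n) F))}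
      rw [Subgroup.mem_centralizer_singleton_iff]
      have h1 := conj_conj_aut (fa σ : MulAut (ProjectiveSpecialLinearGroup (Fin n) F)) k.1
      have h2 : (fa σ : MulAut (ProjectiveSpecialLinearGroup (Fin n) F)) k.1 = k.1 := k.2
      rw [h2] at h1
      conv_lhs => rw [← h1]
      group
  let f : fixP (fa σ : MulAut (ProjectiveSpecialLinearGroup (Fin n) F)) →*
      ↥(Cfsg.inndiagPSL n F ⊓ Subgroup.centralizer {(fa σ : MulAut (ProjectiveSpecialLinearGroup (Fin n) F))}) :=
    { toFun := fun k => ⟨MulAut.conj k.1, hmem k⟩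
      map_one' := by
        apply Subtype.ext
        exact map_one _
      map_mul' := fun a b => by
        apply Subtype.ext
        exact map_mul _ _ _ }
  apply Subgroup.card_dvd_of_injective f
  rw [injective_iff_map_eq_one]
  intro k hk
  apply Subtype.ext
  apply eq_one_of_conj_eq_one hcent
  exact congrArg Subtype.val hk

/-- An element of prime order in the image of `SL_n(F₀)`. -/
lemma exists_order_p {F₀ : Type*} [Field F₀] [Finite F₀] (ι : F₀ →+* F) (hn : 2 ≤ n) {p : ℕ} [hp : Fact p.Prime]
    (h : p ∣ Nat.card (SpecialLinearGroup (Fin n) F₀)) :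
    ∃ e ∈ (wR (n := n) ι).range, orderOf e = p := by
  classical
  obtain ⟨t, ht⟩ := exists_prime_orderOf_dvd_card' p h
  by_cases h1 : wR ι t = 1
  · -- a scalar
    have h2 : t ∈ Subgroup.center (SpecialLinearGroup (Fin n) F₀) := by
      rw [← wR_ker ι (by omega)]
      exact h1
    obtain ⟨ζ, hζn, hζ⟩ := Matrix.SpecialLinearGroup.mem_center_iff.mp h2
    set i₀ : Fin n := ⟨0, by omega⟩ with hi₀
    set i₁ : Fin n := ⟨1, by omega⟩ with hi₁
    have hne : i₀ ≠ i₁ := by
      intro h'
      have := congrArg Fin.val h'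
      simp [hi₀, hi₁] at this
    have hζ0 : ζ ≠ 0 := by
      rintro rfl
      rw [zero_pow (by rw [Fintype.card_fin]; omega)] at hζn
      exact zero_ne_one hζn
    have hts : ∀ k : ℕ, ((t ^ k : SpecialLinearGroup (Fin n) F₀) : Matrix (Fin n) (Fin n) F₀) = scalar (Fin n) (ζ ^ k) := by
      intro k
      rw [Matrix.SpecialLinearGroup.coe_pow, ← hζ, ← map_pow]
    have hζp : ζ ^ p = 1 := by
      have h3 : t ^ p = 1 := by
        rw [← ht]
        exact pow_orderOf_eq_one t
      have h4 := hts p
      rw [h3] at h4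
      have h5 := congrFun (congrFun h4 i₀) i₀
      simpa using h5.symm
    have hζ1 : ζ ≠ 1 := by
      rintro rfl
      have h3 : t = 1 := by
        apply sl_ext
        rw [← hζ]
        simp
      rw [h3, orderOf_one] at ht
      exact hp.out.one_lt.ne ht
    by_cases hs : 3 ≤ n ∨ p ≠ 2
    · -- a diagonal element
      let U : F₀ˣ := Units.mk0 ζ hζ0
      let D : GL (Fin n) F₀ := dg i₀ U * dg i₁ U⁻¹
      have hDdet : ((D : Matrix (Fin n) (Fin n) F₀)).det = 1 := by
        have : Matrix.GeneralLinearGroup.det D = 1 := by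
          change Matrix.GeneralLinearGroup.det (dg i₀ U * dg i₁ U⁻¹) = 1
          rw [map_mul, dg_det, dg_det, mul_inv_cancel]
        have h3 := congrArg Units.val this
        rwa [Matrix.GeneralLinearGroup.val_det_apply] at h3
      let d : SpecialLinearGroup (Fin n) F₀ := ⟨D, hDdet⟩
      have hdent : (d : Matrix (Fin n) (Fin n) F₀) = Matrix.diagonal (fun i => (if i = i₀ then ζ else 1) * (if i = i₁ then ζ⁻¹ else 1)) := by
        change ((dg i₀ U * dg i₁ U⁻¹ : GL (Fin n) F₀) : Matrix (Fin n) (Fin n) F₀) = _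
        rw [Units.val_mul, dg_coe, dg_coe, Matrix.diagonal_mul_diagonal]
        congr 2
      have hdp : d ^ p = 1 := by
        apply sl_ext
        rw [Matrix.SpecialLinearGroup.coe_pow, hdent, Matrix.diagonal_pow, coe_one', ← Matrix.diagonal_one]
        congr 1
        funext i
        simp only [Pi.pow_apply, mul_pow]
        by_cases h3 : i = i₀
        · simp [h3, hne, hζp]
        · by_cases h4 : i = i₁
          · simp [h4, hne.symm, hζp]
          · simp [h3, h4]
      refine ⟨wR ι d, ⟨d, rfl⟩, ?_⟩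
      apply orderOf_eq_prime
      · rw [← map_pow, hdp, map_one]
      · intro h3
        have h4 : d ∈ Subgroup.center (SpecialLinearGroup (Fin n) F₀) := by
          rw [← wR_ker ι (by omega)]
          exact h3
        obtain ⟨ξ, -, hξ⟩ := Matrix.SpecialLinearGroup.mem_center_iff.mp h4
        have hd0 : (d : Matrix (Fin n) (Fin n) F₀) i₀ i₀ = ζ := by
          rw [hdent]
          simp [hne]
        have hd1 : (d : Matrix (Fin n) (Fin n) F₀) i₁ i₁ = ζ⁻¹ := by
          rw [hdent]
          simp [hne.symm]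
        have he0 : ξ = ζ := by
          rw [← hd0, ← hξ]
          simp
        have he1 : ξ = ζ⁻¹ := by
          rw [← hd1, ← hξ]
          simp
        rcases hs with hs | hs
        · set i₂ : Fin n := ⟨2, by omega⟩ with hi₂
          have h02 : i₂ ≠ i₀ := by
            intro h'
            have := congrArg Fin.val h'
            simp [hi₀, hi₂] at this
          have h12 : i₂ ≠ i₁ := by
            intro h'
            have := congrArg Fin.val h'
            simp [hi₁, hi₂] at this
          have hd2 : (d : Matrix (Fin n) (Fin n) F₀) i₂ i₂ = 1 := by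
            rw [hdent]
            simp [h02, h12]
          have he2 : ξ = 1 := by
            rw [← hd2, ← hξ]
            simp
          exact hζ1 (by rw [← he0, he2])
        · have h5 : ζ ^ 2 = 1 := by
            rw [pow_two]
            nth_rewrite 1 [← he0]
            rw [he1, inv_mul_cancel₀ hζ0]
          have h6 : orderOf ζ ∣ 2 := orderOf_dvd_of_pow_eq_one h5
          have h7 : orderOf ζ ∣ p := orderOf_dvd_of_pow_eq_one hζp
          have h8 : orderOf ζ ∣ Nat.gcd 2 p := Nat.dvd_gcd h6 h7
          rw [(Nat.coprime_primes Nat.prime_two hp.out).2 (Ne.symm hs)] at h8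
          rw [Nat.dvd_one, orderOf_eq_one_iff] at h8
          exact hζ1 h8
    · -- `n = 2`, `p = 2`
      push Not at hs
      obtain ⟨hs1, rfl⟩ := hs
      obtain rfl : n = 2 := by omega
      have hζ2 : ζ = -1 := by
        have h3 : (ζ - 1) * (ζ + 1) = 0 := by
          have : (ζ - 1) * (ζ + 1) = ζ ^ 2 - 1 := by ring
          rw [this, hζp, sub_self]
        rcases mul_eq_zero.mp h3 with h4 | h4
        · exact absurd (sub_eq_zero.mp h4) hζ1
        · exact eq_neg_of_add_eq_zero_left h4
      have hm1 : (-1 : F₀) ≠ 1 := fun h => hζ1 (hζ2.trans h)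
      let w : SpecialLinearGroup (Fin 2) F₀ := ⟨!![0, 1; -1, 0], by simp [Matrix.det_fin_two_of]⟩
      refine ⟨wR ι w, ⟨w, rfl⟩, ?_⟩
      apply orderOf_eq_prime
      · rw [← map_pow]
        have : w ^ 2 = t := by
          apply sl_ext
          rw [Matrix.SpecialLinearGroup.coe_pow, ← hζ, hζ2, pow_two]
          ext i j
          fin_cases i <;> fin_cases j <;> simp [w, Matrix.mul_apply, Fin.sum_univ_two]
        rw [this, h1]
      · intro h3
        have h4 : w ∈ Subgroup.center (SpecialLinearGroup (Fin 2) F₀) := by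
          rw [← wR_ker ι (by omega)]
          exact h3
        obtain ⟨ξ, -, hξ⟩ := Matrix.SpecialLinearGroup.mem_center_iff.mp h4
        have h5 := congrFun (congrFun hξ 0) 1
        simp [w] at h5
  · refine ⟨wR ι t, ⟨t, rfl⟩, ?_⟩
    apply orderOf_eq_prime
    · rw [← map_pow, ← ht, pow_orderOf_eq_one, map_one]
    · exact h1

lemma comp_ee {F₀ : Type*} [Field F₀] (ι : F₀ →+* F) (i : Fin n) : (ι ∘ (ee i : Fin n → F₀)) = ee i := by
  funext k
  by_cases hk : k = i
  · subst hk
    simp
  · simp [ee_apply_ne hk]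

/-- Automorphisms fixing the rational transvections have `p`-th power trivial. -/
lemma hcl_rat [Fintype F] {r f : ℕ} (hr : r.Prime) (hf : 1 ≤ f) (hF : Fintype.card F = r ^ f) (hn : 2 ≤ n)
    {p : ℕ} (hord : orderOf σ = p) (y : MulAut (ProjectiveSpecialLinearGroup (Fin n) F))
    (hy : ∀ v φ : Fin n → fixedF σ, φ ⬝ᵥ v = 0 →
      y (pt ((fixedF σ).subtype ∘ v) ((fixedF σ).subtype ∘ φ)) = pt ((fixedF σ).subtype ∘ v) ((fixedF σ).subtype ∘ φ)) :
    y ^ p = 1 := by
  have key : ∀ (g : GL (Fin n) F) (τ : F ≃+* F), y = csAut g τ → y ^ p = 1 := by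
    rintro g τ rfl
    obtain ⟨h1, c, hc⟩ := rigid_rat (fixedF σ).subtype hn g τ hy
    have h2 := pow_eq_one_of_fix'' σ τ hord (fun a ha => h1 ⟨a, ha⟩)
    have h3 : csAut g τ = fa τ := by
      rw [hc]
      have := csAut_scalar_mul (1 : GL (Fin n) F) τ c
      rwa [one_mul] at this
    rw [h3, ← faHom_apply, ← map_pow, h2, map_one]
  rcases hn.eq_or_lt with rfl | hn3
  · obtain ⟨g, τ, h⟩ := aut_two hr hf hF y
    exact key g τ h
  · rcases aut_ge3 hr hf hF hn3 y with ⟨g, τ, h⟩ | ⟨g, τ, h⟩
    · exact key g τ h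
    · exfalso
      apply no_it_rat hn3 g τ
      intro i j hij
      rw [← h]
      have := hy (ee i) (ee j) (ee_dot_ne hij.symm)
      rwa [comp_ee, comp_ee] at this

end field

lemma comm_of_card_le_two {G : Type*} [Group G] (M₁ : Subgroup G) [Finite M₁] (h : Nat.card M₁ ≤ 2) {t a : G}
    (ha : a ∈ M₁) (ht : t * a * t⁻¹ ∈ M₁) : t * a * t⁻¹ = a := by
  by_contra hne
  have ha1 : a ≠ 1 := by
    rintro rfl
    apply hne
    group
  have hb1 : t * a * t⁻¹ ≠ 1 := by
    intro h1
    apply ha1
    have : a = t⁻¹ * (t * a * t⁻¹) * t := by group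
    rw [this, h1]
    group
  let f : Fin 3 → M₁ := ![1, ⟨a, ha⟩, ⟨t * a * t⁻¹, ht⟩]
  have hf : Function.Injective f := by
    intro i j hij
    have hij' := congrArg Subtype.val hij
    fin_cases i <;> fin_cases j <;> first
      | rfl
      | (exfalso; simp [f] at hij'; first | exact ha1 hij'.symm | exact hb1 hij'.symm | exact hne hij' | exact hne hij'.symm | exact ha1 hij' | exact hb1 hij')
  have := Nat.card_le_card_of_injective f hf
  rw [Nat.card_fin] at this
  omega

lemma comm_of_card_three {G : Type*} [Group G] (M₁ : Subgroup G) [Finite M₁] (h : Nat.card M₁ = 3) {t a : G}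
    (ha : a ∈ M₁) (ht : t * a * t⁻¹ ∈ M₁) (h3 : t ^ 3 = 1) : t * a * t⁻¹ = a := by
  by_contra hne
  have ha1 : a ≠ 1 := by
    rintro rfl
    apply hne
    group
  have hb1 : t * a * t⁻¹ ≠ 1 := by
    intro h1
    apply ha1
    have : a = t⁻¹ * (t * a * t⁻¹) * t := by group
    rw [this, h1]
    group
  have hao : orderOf a ∣ 3 := by
    have h1 : orderOf (⟨a, ha⟩ : M₁) ∣ Nat.card M₁ := orderOf_dvd_natCard _
    rwa [Subgroup.orderOf_mk, h] at h1
  have hai : a ≠ a⁻¹ := by
    intro h1
    have h2 : a ^ 2 = 1 := by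
      rw [pow_two]
      nth_rewrite 2 [h1]
      group
    have h4 : orderOf a ∣ Nat.gcd 3 2 := Nat.dvd_gcd hao (orderOf_dvd_of_pow_eq_one h2)
    have h5 : orderOf a = 1 := by simpa using h4
    exact ha1 (orderOf_eq_one_iff.mp h5)
  have hbi : t * a * t⁻¹ = a⁻¹ := by
    by_contra hbi
    let f : Fin 4 → M₁ := ![1, ⟨a, ha⟩, ⟨a⁻¹, inv_mem ha⟩, ⟨t * a * t⁻¹, ht⟩]
    have hf : Function.Injective f := by
      have hai' : a⁻¹ ≠ 1 := inv_ne_one.mpr ha1
      intro i j hij
      have hij' := congrArg Subtype.val hij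
      fin_cases i <;> fin_cases j <;> first
        | rfl
        | (exfalso; simp [f] at hij'; first | exact ha1 hij'.symm | exact hb1 hij'.symm | exact hne hij' | exact hne hij'.symm | exact ha1 hij' | exact hb1 hij' | exact hai hij' | exact hai hij'.symm | exact hbi hij' | exact hbi hij'.symm)
    have := Nat.card_le_card_of_injective f hf
    rw [Nat.card_fin] at this
    omega
  apply hai
  have e : t ^ 3 * a * (t ^ 3)⁻¹ = t * (t * (t * a * t⁻¹) * t⁻¹) * t⁻¹ := by
    rw [show t ^ 3 = t * t * t by simp only [pow_succ, pow_zero, one_mul]]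
    group
  rw [h3] at e
  have e2 : t * a⁻¹ * t⁻¹ = a := by
    have : t * a⁻¹ * t⁻¹ = (t * a * t⁻¹)⁻¹ := by group
    rw [this, hbi, inv_inv]
  rw [hbi, e2, hbi] at e
  simpa using e

/-- The criterion for a standard field automorphism of prime order. -/
theorem bal_field [Fintype F] {r : ℕ} [hr : Fact r.Prime] [CharP F r] (hn : 2 ≤ n)
    (hK : IsSimpleGroup (ProjectiveSpecialLinearGroup (Fin n) F)) {p : ℕ} [hp : Fact p.Prime] (hpr : p ≠ r)
    (σ : F ≃+* F) (hord : orderOf σ = p) (A : Subgroup (MulAut (ProjectiveSpecialLinearGroup (Fin n) F)))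
    (hinn : ∀ k : ProjectiveSpecialLinearGroup (Fin n) F, MulAut.conj k ∈ A) :
    (∃ N : Subgroup ↥(A ⊓ Subgroup.centralizer {(fa σ : MulAut (ProjectiveSpecialLinearGroup (Fin n) F))}),
      N.Normal ∧ (Nat.card N).Coprime p ∧ N ≠ ⊥) ↔
      Nat.Coprime p (Nat.card (fixP (fa σ : MulAut (ProjectiveSpecialLinearGroup (Fin n) F)))) := by
  classical
  obtain ⟨f', hr', hF⟩ := FiniteField.card F r
  have hf : 1 ≤ (f' : ℕ) := f'.pos
  haveI : Fintype (fixedF σ) := Fintype.ofFinite _
  have hcent := center_bot hn hK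
  have hcl' := hcl_rat σ hr.out hf hF hn hord
  apply bal_weak hcent _ A hinn (wR (n := n) (fixedF σ).subtype).range
  · rintro _ ⟨s, rfl⟩
    exact fa_wR σ s
  · rintro k hk _ ⟨t, rfl⟩
    obtain ⟨t', ht'⟩ := fix_normalises σ hn hp.out.pos hord hk t
    exact ⟨t', ht'.symm⟩
  · intro hdvd M hM hMn hMp a haM haE
    have hd' : p ∣ Nat.card (SpecialLinearGroup (Fin n) (fixedF σ)) :=
      hdvd.trans (card_fix_dvd σ hcent hn hp.out.pos hord)
    by_cases hs : 3 ≤ n ∨ 4 ≤ Fintype.card (fixedF σ)
    · -- simple case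
      have hsimple : IsSimpleGroup (ProjectiveSpecialLinearGroup (Fin n) (fixedF σ)) := by
        rcases hs with hs | hs
        · exact Cfsg.Agent.Lib.ClassicalSL.isSimpleGroup_PSL (by rwa [Fintype.card_fin])
        · rcases hn.eq_or_lt with rfl | hn3
          · apply Matrix.ProjectiveSpecialLinearGroup.rank_two_simple
            rwa [Nat.card_eq_fintype_card]
          · exact Cfsg.Agent.Lib.ClassicalSL.isSimpleGroup_PSL (by rwa [Fintype.card_fin])
      haveI := wR_range_simple (n := n) (fixedF σ).subtype (by omega) hsimple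
      set E := (wR (n := n) (fixedF σ).subtype).range with hE
      have hEL : E ≤ fixP (fa σ : MulAut (ProjectiveSpecialLinearGroup (Fin n) F)) := by
        rintro _ ⟨s, rfl⟩
        exact fa_wR σ s
      have hnorm : (M.subgroupOf E).Normal := by
        constructor
        intro x hx g
        rw [Subgroup.mem_subgroupOf] at hx ⊢
        exact hMn _ (hEL g.2) _ hx
      rcases hnorm.eq_bot_or_eq_top with h | h
      · have h2 : (⟨a, haE⟩ : E) ∈ M.subgroupOf E := by
          rw [Subgroup.mem_subgroupOf]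
          exact haM
        rw [h, Subgroup.mem_bot] at h2
        exact congrArg Subtype.val h2
      · exfalso
        obtain ⟨e, heE, heo⟩ := exists_order_p (fixedF σ).subtype hn hd'
        have h2 : (⟨e, heE⟩ : E) ∈ M.subgroupOf E := by
          rw [h]
          trivial
        rw [Subgroup.mem_subgroupOf] at h2
        have h3 := hMp e h2 (by rw [heo])
        rw [h3, orderOf_one] at heo
        exact hp.out.one_lt.ne heo
    · -- small case
      push Not at hs
      obtain ⟨hs1, hs2⟩ := hs
      obtain rfl : n = 2 := by omega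
      have hq1 : 1 < Fintype.card (fixedF σ) := Fintype.one_lt_card
      have hcz : ((Fintype.card (fixedF σ) : ℕ) : fixedF σ) = 0 := FiniteField.cast_card_eq_zero _
      have hcz' : ((Fintype.card (fixedF σ) : ℕ) : F) = 0 := by
        have := congrArg (fixedF σ).subtype hcz
        rwa [map_natCast, map_zero] at this
      have hrq : r ∣ Fintype.card (fixedF σ) := (CharP.cast_eq_zero_iff F r _).1 hcz'
      set E := (wR (n := 2) (fixedF σ).subtype).range with hE
      have hEL : E ≤ fixP (fa σ : MulAut (ProjectiveSpecialLinearGroup (Fin 2) F)) := by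
        rintro _ ⟨s, rfl⟩
        exact fa_wR σ s
      set Me : Subgroup (ProjectiveSpecialLinearGroup (Fin 2) F) := M ⊓ E with hMe
      have hc1 : Nat.card Me ∣ Nat.card (SpecialLinearGroup (Fin 2) (fixedF σ)) :=
        (Subgroup.card_dvd_of_le inf_le_right).trans (Subgroup.card_range_dvd _)
      have hc2 : (Nat.card Me).Coprime p := by
        rw [Nat.coprime_comm, Nat.Prime.coprime_iff_not_dvd hp.out]
        intro hd
        obtain ⟨e, he⟩ := exists_prime_orderOf_dvd_card' p hd
        have h3 := hMp e.1 e.2.1 (by rw [Subgroup.orderOf_coe, he])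
        have h4 : e = 1 := Subtype.ext h3
        rw [h4, orderOf_one] at he
        exact hp.out.one_lt.ne he
      rw [Cfsg.Agent.Lib.ClassicalSmall.card_SL2] at hc1 hd'
      -- the possibilities
      have hcases : Nat.card Me ≤ 2 ∨ (Nat.card Me = 3 ∧ Fintype.card (fixedF σ) = 3) := by
        have hq : Fintype.card (fixedF σ) = 2 ∨ Fintype.card (fixedF σ) = 3 := by omega
        rcases hq with hq | hq
        · left
          rw [hq] at hc1 hd' hrq
          have hr2 : r = 2 := (Nat.prime_dvd_prime_iff_eq hr.out Nat.prime_two).1 hrq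
          have hp3 : p = 3 := by
            have h6 : p ∣ 2 * 3 := by simpa using hd'
            rcases (Nat.Prime.dvd_mul hp.out).1 h6 with h7 | h7
            · exact absurd ((Nat.prime_dvd_prime_iff_eq hp.out Nat.prime_two).1 h7) (by omega)
            · exact (Nat.prime_dvd_prime_iff_eq hp.out Nat.prime_three).1 h7
          rw [hp3] at hc2
          have h6 : Nat.card Me ∣ 2 * 3 := by simpa using hc1
          have h7 : Nat.card Me ∣ 2 := hc2.dvd_of_dvd_mul_right h6
          exact Nat.le_of_dvd (by norm_num) h7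
        · rw [hq] at hc1 hd' hrq
          have hr3 : r = 3 := (Nat.prime_dvd_prime_iff_eq hr.out Nat.prime_three).1 hrq
          have hp2 : p = 2 := by
            have h6 : p ∣ 2 ^ 3 * 3 := by simpa using hd'
            rcases (Nat.Prime.dvd_mul hp.out).1 h6 with h7 | h7
            · exact (Nat.prime_dvd_prime_iff_eq hp.out Nat.prime_two).1 (hp.out.dvd_of_dvd_pow h7)
            · exact absurd ((Nat.prime_dvd_prime_iff_eq hp.out Nat.prime_three).1 h7) (by omega)
          rw [hp2] at hc2
          have h6 : Nat.card Me ∣ 2 ^ 3 * 3 := by simpa using hc1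
          have h7 : Nat.card Me ∣ 3 := (Nat.Coprime.pow_right 3 hc2).dvd_of_dvd_mul_left h6
          rcases (Nat.dvd_prime Nat.prime_three).1 h7 with h8 | h8
          · left
            omega
          · right
            exact ⟨h8, hq⟩
      have hconj : ∀ v φ : Fin 2 → fixedF σ, φ ⬝ᵥ v = 0 →
          MulAut.conj a (pt ((fixedF σ).subtype ∘ v) ((fixedF σ).subtype ∘ φ)) = pt ((fixedF σ).subtype ∘ v) ((fixedF σ).subtype ∘ φ) := by
        intro v φ h
        rw [← wR_tv _ h]
        set t := wR (n := 2) (fixedF σ).subtype (tv v φ) with ht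
        have htE : t ∈ E := ⟨_, rfl⟩
        have haMe : a ∈ Me := ⟨haM, haE⟩
        have htMe : t * a * t⁻¹ ∈ Me :=
          ⟨hMn t (hEL htE) a haM, E.mul_mem (E.mul_mem htE haE) (E.inv_mem htE)⟩
        have hcomm : t * a * t⁻¹ = a := by
          rcases hcases with h1 | ⟨h1, h2⟩
          · exact comm_of_card_le_two Me h1 haMe htMe
          · apply comm_of_card_three Me h1 haMe htMe
            rw [ht, ← map_pow]
            have h3 : (3 : fixedF σ) = 0 := by
              rw [h2] at hcz
              exact_mod_cast hcz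
            have h4 : v + v + v = 0 := by
              funext i
              have : v i + v i + v i = 3 * v i := by ring
              simp [this, h3]
            have h5 : tv v φ ^ 3 = 1 := by
              have e1 : tv (v + v) φ = tv v φ * tv v φ := tv_add_left h h
              have e2 : tv (v + v + v) φ = tv (v + v) φ * tv v φ := tv_add_left (by rw [dotProduct_add, h, add_zero]) h
              rw [h4, tv_zero_left, e1] at e2
              rw [pow_succ, pow_two]
              exact e2.symm
            rw [h5, map_one]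
        rw [MulAut.conj_apply]
        calc a * t * a⁻¹ = (t * a * t⁻¹) * t * a⁻¹ := by rw [hcomm]
          _ = t := by group
      have h5 := hcl_rat σ hr.out hf hF hn hord _ hconj
      rw [← map_pow] at h5
      have h6 : a ^ p = 1 := eq_one_of_conj_eq_one hcent h5
      exact hMp a haM (orderOf_dvd_of_pow_eq_one h6)
  · intro h0
    set i₀ : Fin n := ⟨0, by omega⟩ with hi₀
    set i₁ : Fin n := ⟨1, by omega⟩ with hi₁
    have hne : i₀ ≠ i₁ := by
      intro h'
      have := congrArg Fin.val h'
      simp [hi₀, hi₁] at this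
    have h1 : wR (n := n) (fixedF σ).subtype (tv (ee i₀) (ee i₁)) ∈ (wR (n := n) (fixedF σ).subtype).range := ⟨_, rfl⟩
    rw [h0, Subgroup.mem_bot, wR_tv _ (ee_dot_ne hne.symm), comp_ee, comp_ee] at h1
    exact pt_ne_one (ee_dot_ne hne.symm) (ee_ne_zero i₀) (ee_ne_zero i₁) h1
  · intro y hy
    apply hcl'
    intro v φ h
    rw [← wR_tv _ h]
    exact hy _ ⟨_, rfl⟩

end Cfsg.Agent.Lib.BalPSL
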