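import Cfsg.Agent.Lib.BalPSL.Unitary

/-!
# Automorphisms `gr (A⁻¹)`: subgroups of the isometry group of `A` in the fixed points
-/

set_option autoImplicit false

namespace Cfsg.Agent.Lib.BalPSL

open Matrix
open scoped MatrixGroups
open Cfsg.Agent.Lib.AutPSL Cfsg.Agent.Lib.Hilbert90
open Cfsg.Agent.Lib.AutPOm (fixP mem_fixP conj_conj_aut eq_one_of_conj_eq_one)

variable {F : Type*} [Field F] {n : ℕ}

section form

variable {ι : Type} [Fintype ι] [DecidableEq ι] (e : ι ≃ Fin n)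

/-- The element of `SL_n` given by an element of `GL(ι)` of determinant one. -/
noncomputable def slR (s : GL ι F) (h : (s : Matrix ι ι F).det = 1) : SpecialLinearGroup (Fin n) F :=
  ⟨(rG e s : GL (Fin n) F).1, by rw [det_rG]; exact h⟩

lemma slR_coe (s : GL ι F) (h : (s : Matrix ι ι F).det = 1) :
    (slR e s h : Matrix (Fin n) (Fin n) F) = (s : Matrix ι ι F).submatrix e.symm e.symm := rfl

lemma toGL_slR (s : GL ι F) (h : (s : Matrix ι ι F).det = 1) :
    Matrix.SpecialLinearGroup.toGL (slR e s h) = rG e s := by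
  apply Units.ext
  rfl

variable {G : Type*} [Group G] (φ : G →* GL ι F) (hdet : ∀ g, ((φ g : GL ι F) : Matrix ι ι F).det = 1)

/-- The map from `G` to `PSL_n`. -/
noncomputable def wF : G →* ProjectiveSpecialLinearGroup (Fin n) F where
  toFun g := QuotientGroup.mk (slR e (φ g) (hdet g))
  map_one' := by
    have : slR e (φ 1) (hdet 1) = 1 := by
      apply sl_ext
      rw [slR_coe, map_one, coe_one', Units.val_one]
      ext i j
      simp [Matrix.one_apply]
    rw [this]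
    rfl
  map_mul' a b := by
    rw [← QuotientGroup.mk_mul]
    congr 1
    apply sl_ext
    rw [coe_mul', slR_coe, slR_coe, slR_coe, map_mul, Units.val_mul, Matrix.submatrix_mul_equiv]

lemma wF_apply (g : G) : wF e φ hdet g = QuotientGroup.mk (slR e (φ g) (hdet g)) := rfl

lemma conj_wF (g : G) : MulAut.conj (wF e φ hdet g) = dl (rG e (φ g)) := by
  rw [wF_apply, csAut_conj, toGL_slR]

lemma fix_wF (hn : 2 ≤ n) (hcent : Subgroup.center (ProjectiveSpecialLinearGroup (Fin n) F) = ⊥) (A : GL ι F)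
    (hiso : ∀ g, ((φ g : GL ι F) : Matrix ι ι F)ᵀ * (A : Matrix ι ι F) * ((φ g : GL ι F) : Matrix ι ι F) = A) (g : G) :
    gr (rG e A⁻¹) (wF e φ hdet g) = wF e φ hdet g := by
  apply fix_of_commute hcent
  rw [conj_wF, commute_rG_iff hn]
  exact ⟨1, by rw [hiso]; simp⟩

lemma norm_wF (hn : 2 ≤ n) (A : GL ι F)
    (hnorm : ∀ (u : GL ι F) (c : Fˣ), (u : Matrix ι ι F)ᵀ * (A : Matrix ι ι F) * (u : Matrix ι ι F) = (c : F) • (A : Matrix ι ι F) →
      ∀ g, ∃ g', φ g' = u * φ g * u⁻¹)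
    {k : ProjectiveSpecialLinearGroup (Fin n) F} (hk : gr (rG e A⁻¹) k = k) (g : G) :
    ∃ g', k * wF e φ hdet g * k⁻¹ = wF e φ hdet g' := by
  obtain ⟨s, rfl⟩ := QuotientGroup.mk_surjective k
  set u : GL ι F := (rG e).symm (Matrix.SpecialLinearGroup.toGL s) with hu
  have hu' : rG e u = Matrix.SpecialLinearGroup.toGL s := by rw [hu]; simp
  have hconj : MulAut.conj (QuotientGroup.mk s : ProjectiveSpecialLinearGroup (Fin n) F) = dl (rG e u) := by
    rw [csAut_conj, hu']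
  have hcomm : Commute (dl (rG e u)) (gr (rG e A⁻¹)) := by
    rw [← hconj]
    exact commute_of_fix hk
  obtain ⟨c, hc⟩ := (commute_rG_iff hn e u A).mp hcomm
  obtain ⟨g', hg'⟩ := hnorm u c hc g
  refine ⟨g', ?_⟩
  have h2 := (MulAut.conj_apply (QuotientGroup.mk s : ProjectiveSpecialLinearGroup (Fin n) F) (wF e φ hdet g))
  rw [hconj, wF_apply, csAut_mk] at h2
  rw [wF_apply, ← h2, wF_apply]
  congr 1
  apply sl_ext
  rw [slMap_coe, slR_coe, slR_coe, hg']
  have e1 : ((u * φ g * u⁻¹ : GL ι F) : Matrix ι ι F).submatrix e.symm e.symm = (rG e (u * φ g * u⁻¹) : GL (Fin n) F).1 := rfl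
  have e2 : ((φ g : GL ι F) : Matrix ι ι F).submatrix e.symm e.symm = (rG e (φ g) : GL (Fin n) F).1 := rfl
  rw [e1, e2, map_mul, map_mul, map_inv]
  simp only [Units.val_mul]
  congr 2

/-- The semilinear map on `ι → F` attached to `csAut g τ`. -/
noncomputable def Sm (g : GL (Fin n) F) (τ : F ≃+* F) (v : ι → F) : ι → F :=
  ((g : Matrix (Fin n) (Fin n) F) *ᵥ vmap τ (v ∘ e.symm)) ∘ e

lemma Sm_add (g : GL (Fin n) F) (τ : F ≃+* F) (x y : ι → F) : Sm e g τ (x + y) = Sm e g τ x + Sm e g τ y := by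
  have h1 : (x + y) ∘ e.symm = x ∘ e.symm + y ∘ e.symm := rfl
  rw [Sm, h1, vmap_add, Matrix.mulVec_add]
  rfl

lemma Sm_smul (g : GL (Fin n) F) (τ : F ≃+* F) (c : F) (x : ι → F) : Sm e g τ (c • x) = τ c • Sm e g τ x := by
  have h1 : (c • x) ∘ e.symm = c • (x ∘ e.symm) := rfl
  rw [Sm, h1, vmap_smul, Matrix.mulVec_smul]
  rfl

lemma comp_symm_ne_zero {v : ι → F} (h : v ≠ 0) : v ∘ e.symm ≠ 0 := by
  intro h0
  apply h
  funext i
  have := congrFun h0 (e i)
  simpa using this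

lemma comp_ne_zero {v : Fin n → F} (h : v ≠ 0) : v ∘ e ≠ 0 := by
  intro h0
  apply h
  funext i
  have := congrFun h0 (e.symm i)
  simpa using this

lemma Sm_ne_zero (g : GL (Fin n) F) (τ : F ≃+* F) {x : ι → F} (h : x ≠ 0) : Sm e g τ x ≠ 0 :=
  comp_ne_zero e (gl_mulVec_ne_zero g (vmap_ne_zero τ (comp_symm_ne_zero e h)))

/-- The commutation relation of `Sm` with a fixed element. -/
lemma Sm_comm (g : GL (Fin n) F) (τ : F ≃+* F) (s : GL ι F) (h : (s : Matrix ι ι F).det = 1)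
    (hfix : csAut g τ (QuotientGroup.mk (slR e s h)) = QuotientGroup.mk (slR e s h)) :
    ∃ c : F, ∀ x, Sm e g τ ((s : Matrix ι ι F) *ᵥ x) = c • ((s : Matrix ι ι F) *ᵥ Sm e g τ x) := by
  rw [csAut_mk] at hfix
  obtain ⟨c, hc⟩ := (mk_eq_mk_iff _ _).mp hfix.symm
  rw [slMap_coe] at hc
  set R := (slR e s h : Matrix (Fin n) (Fin n) F) with hR
  have h1 : (g : Matrix (Fin n) (Fin n) F) * R.map τ = c • (R * (g : Matrix (Fin n) (Fin n) F)) := by
    calc (g : Matrix (Fin n) (Fin n) F) * R.map τ = ((g : Matrix (Fin n) (Fin n) F) * R.map τ * ((g⁻¹ : GL (Fin n) F) : Matrix (Fin n) (Fin n) F)) * (g : Matrix (Fin n) (Fin n) F) := by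
          rw [Matrix.mul_assoc, gl_inv_mul, Matrix.mul_one]
      _ = _ := by rw [hc, Matrix.smul_mul]
  refine ⟨c, fun x => ?_⟩
  have hsub : ∀ y : Fin n → F, (((s : Matrix ι ι F) *ᵥ (y ∘ e)) ∘ e.symm) = R *ᵥ y := by
    intro y
    rw [hR, slR_coe, Matrix.submatrix_mulVec_equiv]
    rfl
  have hsub2 : ∀ y : ι → F, ((s : Matrix ι ι F) *ᵥ y) ∘ e.symm = R *ᵥ (y ∘ e.symm) := by
    intro y
    rw [← hsub]
    congr 2
    funext i
    simp
  have hsub3 : ∀ y : Fin n → F, (s : Matrix ι ι F) *ᵥ (y ∘ e) = (R *ᵥ y) ∘ e := by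
    intro y
    rw [← hsub]
    funext i
    simp
  rw [Sm, hsub2, map_mulVec', Matrix.mulVec_mulVec, h1, Matrix.smul_mulVec, ← Matrix.mulVec_mulVec, Sm, hsub3]
  rfl

/-- `Sm` commutes with the nilpotent part of a fixed unipotent element. -/
lemma Sm_comm_nil (g : GL (Fin n) F) (τ : F ≃+* F) (s : GL ι F) (h : (s : Matrix ι ι F).det = 1)
    (hfix : csAut g τ (QuotientGroup.mk (slR e s h)) = QuotientGroup.mk (slR e s h))
    {N : (ι → F) → ι → F} (hNs : ∀ x, (s : Matrix ι ι F) *ᵥ x = x + N x) (hNsmul : ∀ (c : F) x, N (c • x) = c • N x)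
    (hN3 : ∀ x, N (N (N x)) = 0) {v : ι → F} (hv : N v = 0) (hv0 : v ≠ 0) (x : ι → F) :
    Sm e g τ (N x) = N (Sm e g τ x) := by
  obtain ⟨c, hc⟩ := Sm_comm e g τ s h hfix
  simp only [hNs] at hc
  have hc1 : c = 1 := c_eq_one (Sm_add e g τ) hNsmul hN3 hv (Sm_ne_zero e g τ hv0) hc
  have h1 := hc x
  rw [hc1, one_smul, Sm_add] at h1
  exact add_left_cancel h1

/-- If all lines are eigenspaces of `Sm` then the automorphism is trivial. -/
lemma Sm_lines (hn : 2 ≤ n) (g : GL (Fin n) F) (τ : F ≃+* F)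
    (h : ∀ v : ι → F, v ≠ 0 → ∃ a : F, a ≠ 0 ∧ Sm e g τ v = a • v) : csAut g τ = 1 := by
  obtain ⟨h1, c, hc⟩ := rigid_of_lines (RingHom.id F) hn g τ (by
    intro v hv
    obtain ⟨a, ha, hae⟩ := h (v ∘ e) (comp_ne_zero e hv)
    refine ⟨a, ha, ?_⟩
    have h2 : (v ∘ e) ∘ e.symm = v := by
      funext i
      simp
    rw [Sm, h2] at hae
    funext i
    have h3 := congrFun hae (e.symm i)
    simpa using h3)
  have hτ : τ = RingEquiv.refl F := by
    ext x
    exact h1 x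
  rw [hτ, hc, csAut_scalar_refl]

end form

/-- The main structural statement in the presence of an isometry subgroup. -/
theorem form_core {ι : Type} [Fintype ι] [DecidableEq ι] (e : ι ≃ Fin n) [Fintype F] {r : ℕ} (hr : r.Prime) [CharP F r] (hn3 : 3 ≤ n)
    (hcent : Subgroup.center (ProjectiveSpecialLinearGroup (Fin n) F) = ⊥) (A : GL ι F)
    (hx2 : (gr (rG e A⁻¹)) ^ 2 = 1)
    {G : Type*} [Group G] (φ : G →* GL ι F) (hφ : Function.Injective φ) (hdet : ∀ g, ((φ g : GL ι F) : Matrix ι ι F).det = 1)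
    (hiso : ∀ g, ((φ g : GL ι F) : Matrix ι ι F)ᵀ * (A : Matrix ι ι F) * ((φ g : GL ι F) : Matrix ι ι F) = A)
    (hnorm : ∀ (u : GL ι F) (c : Fˣ), (u : Matrix ι ι F)ᵀ * (A : Matrix ι ι F) * (u : Matrix ι ι F) = (c : F) • (A : Matrix ι ι F) →
      ∀ g, ∃ g', φ g' = u * φ g * u⁻¹)
    (hNo : NoOdd (G ⧸ Subgroup.center G)) (hinv : ∃ t : G ⧸ Subgroup.center G, orderOf t = 2)
    (hrig : ∀ (g : GL (Fin n) F) (τ : F ≃+* F), (∀ s : G, csAut g τ (wF e φ hdet s) = wF e φ hdet s) → csAut g τ = 1) :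
    ¬ Nat.Coprime 2 (Nat.card (fixP (gr (rG e A⁻¹)))) ∧
    ∀ A' : Subgroup (MulAut (ProjectiveSpecialLinearGroup (Fin n) F)),
      (∀ k : ProjectiveSpecialLinearGroup (Fin n) F, MulAut.conj k ∈ A') →
      ((∃ N : Subgroup ↥(A' ⊓ Subgroup.centralizer {gr (rG e A⁻¹)}), N.Normal ∧ (Nat.card N).Coprime 2 ∧ N ≠ ⊥) ↔
        Nat.Coprime 2 (Nat.card (fixP (gr (rG e A⁻¹))))) := by
  classical
  have hn2 : 2 ≤ n := by omega
  have hker : (wF e φ hdet).ker = Subgroup.center G := by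
    apply ker_eq_center
    · intro s hs
      rw [MonoidHom.mem_ker, wF_apply] at hs
      obtain ⟨c, hc⟩ := (mk_eq_one_iff _).mp hs
      rw [slR_coe] at hc
      have hs' : ((φ s : GL ι F) : Matrix ι ι F) = c • (1 : Matrix ι ι F) := by
        ext i j
        have := congrFun (congrFun hc (e i)) (e j)
        simpa [Matrix.one_apply] using this
      rw [Subgroup.mem_center_iff]
      intro t
      apply hφ
      rw [map_mul, map_mul]
      apply Units.ext
      rw [Units.val_mul, Units.val_mul, hs']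
      simp
    · intro k hk
      apply eq_one_of_conj_eq_one hcent
      obtain ⟨s, rfl⟩ := QuotientGroup.mk_surjective k
      rw [csAut_conj] at hk ⊢
      apply hrig
      intro t
      exact hk _ ⟨t, rfl⟩
  have hNoE : NoOdd (wF e φ hdet).range := hNo.congr (rangeEquiv (wF e φ hdet) hker).symm
  obtain ⟨t, ht⟩ := hinv
  apply graph_core hr hn3 hcent _ ⟨rG e A⁻¹, RingEquiv.refl F, rfl⟩ hx2 (wF e φ hdet).range
  · rintro _ ⟨s, rfl⟩
    exact fix_wF e φ hdet hn2 hcent A hiso s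
  · rintro k hk _ ⟨t, rfl⟩
    obtain ⟨t', ht'⟩ := norm_wF e φ hdet hn2 A hnorm hk t
    exact ⟨t', ht'.symm⟩
  · exact hNoE
  · refine ⟨((rangeEquiv (wF e φ hdet) hker).symm t : (wF e φ hdet).range).1, ((rangeEquiv (wF e φ hdet) hker).symm t).2, ?_⟩
    rw [Subgroup.orderOf_coe, MulEquiv.orderOf_eq, ht]
  · intro g τ h
    apply hrig
    intro s
    exact h _ ⟨s, rfl⟩

end Cfsg.Agent.Lib.BalPSL
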