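import Cfsg.Agent.Lib.BalPSL.Orth
import Cfsg.Agent.Lib.AutPSL.OddTwo
import Cfsg.Agent.Lib.AutPSL.NTwo
import Cfsg.Agent.Lib.AutPSL.Main
import Cfsg.Agent.Lib.AutPSL.Structure
import Cfsg.Agent.Lib.AutPSL.GramForms
import Cfsg.Agent.Lib.AutPOm.BalGroup

/-!
# Local balance for `PSL_n(F)`: the main theorem
-/

set_option autoImplicit false

namespace Cfsg.Agent.Lib.BalPSL

open Matrix
open scoped MatrixGroups
open Cfsg.Agent.Lib.AutPSL Cfsg.Agent.Lib.QuadGram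
open Cfsg.Agent.Lib.AutPOm (fixP mem_fixP bal_transfer)

variable {F : Type*} [Field F] {n : ℕ}

lemma card_fixP_conj {K : Type*} [Group K] (U φ : MulAut K) :
    Nat.card (fixP (U * φ * U⁻¹)) = Nat.card (fixP φ) := by
  symm
  apply Nat.card_congr
  refine ⟨fun k => ⟨U k.1, ?_⟩, fun k => ⟨U⁻¹ k.1, ?_⟩, fun k => ?_, fun k => ?_⟩
  · have h4 : φ k.1 = k.1 := k.2
    change (U * φ * U⁻¹ : MulAut K) (U k.1) = U k.1
    change U (φ (U⁻¹ (U k.1))) = U k.1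
    have h5 : U⁻¹ (U k.1) = k.1 := U.symm_apply_apply _
    rw [h5, h4]
  · have h4 : (U * φ * U⁻¹ : MulAut K) k.1 = k.1 := k.2
    change φ (U⁻¹ k.1) = U⁻¹ k.1
    have h5 : U (φ (U⁻¹ k.1)) = k.1 := h4
    conv_rhs => rw [← h5]
    exact (U.symm_apply_apply _).symm
  · apply Subtype.ext
    exact U.symm_apply_apply _
  · apply Subtype.ext
    exact U.apply_symm_apply _

lemma no_core {K : Type*} [Group K] (A : Subgroup (MulAut K)) (hinn : ∀ k : K, MulAut.conj k ∈ A) (U φ : MulAut K)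
    (h : ¬ Nat.Coprime 2 (Nat.card (fixP φ)) ∧ ∀ A' : Subgroup (MulAut K), (∀ k : K, MulAut.conj k ∈ A') →
      ((∃ N : Subgroup ↥(A' ⊓ Subgroup.centralizer {φ}), N.Normal ∧ (Nat.card N).Coprime 2 ∧ N ≠ ⊥) ↔
        Nat.Coprime 2 (Nat.card (fixP φ)))) :
    ¬ (Cfsg.pPrimeCore 2 ↥(A ⊓ Subgroup.centralizer {U * φ * U⁻¹}) ≠ ⊥) := by
  rw [bal_transfer A hinn U φ h.2, card_fixP_conj]
  exact h.1

lemma csAut_it_ne (hn3 : 3 ≤ n) (g h : GL (Fin n) F) (σ τ : F ≃+* F) :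
    (csAut g σ * itAut : MulAut (ProjectiveSpecialLinearGroup (Fin n) F)) ≠ csAut h τ := by
  intro he
  have h1 : ((csAut h τ)⁻¹ * csAut g σ) * (itAut : MulAut (ProjectiveSpecialLinearGroup (Fin n) F)) = 1 := by
    rw [mul_assoc, he, inv_mul_cancel]
  rw [csAut_inv, csAut_mul] at h1
  refine no_it_rat hn3 (glMap τ.symm h⁻¹ * glMap τ.symm g) (σ.trans τ.symm) ?_
  intro i j _
  rw [h1]
  rfl

section graph

variable [Fintype F]

lemma odd_card_of {r : ℕ} [Fact r.Prime] [CharP F r] (hr2 : r ≠ 2) : Odd (Fintype.card F) := by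
  obtain ⟨f', hr', hF⟩ := FiniteField.card F r
  rw [hF]
  exact (hr'.odd_of_ne_two hr2).pow

lemma two_ne_of {r : ℕ} [Fact r.Prime] [CharP F r] (hr2 : r ≠ 2) : (2 : F) ≠ 0 := two_ne_of_odd (odd_card_of hr2)

variable {r : ℕ} [hr : Fact r.Prime] [CharP F r]

include hr in
/-- Skew-symmetric case. -/
lemma gr_skew (hr2 : r ≠ 2) (hn3 : 3 ≤ n) (hcent : Subgroup.center (ProjectiveSpecialLinearGroup (Fin n) F) = ⊥)
    (A : Subgroup (MulAut (ProjectiveSpecialLinearGroup (Fin n) F)))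
    (hinn : ∀ k : ProjectiveSpecialLinearGroup (Fin n) F, MulAut.conj k ∈ A)
    (g : GL (Fin n) F) (hg : (g : Matrix (Fin n) (Fin n) F)ᵀ = -(g : Matrix (Fin n) (Fin n) F)) :
    ¬ (Cfsg.pPrimeCore 2 ↥(A ⊓ Subgroup.centralizer {gr g}) ≠ ⊥) := by
  classical
  have h2 : (2 : F) ≠ 0 := two_ne_of hr2
  have hn2 : 2 ≤ n := by omega
  obtain ⟨m, hm⟩ := even_of_alt _ (skew_alt h2 _ hg) (gl_det_ne g)
  have hm2 : 2 ≤ m := by omega
  let e₁ : Fin m ⊕ Fin m ≃ Fin n := Fintype.equivFinOfCardEq (by simp; omega)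
  set g₁ : GL (Fin n) F := rG e₁ (jG F m)⁻¹ with hg₁
  have hs₁ : (g₁ : Matrix (Fin n) (Fin n) F)ᵀ = -(g₁ : Matrix (Fin n) (Fin n) F) :=
    rG_inv_skew e₁ _ (by
      rw [jG_transpose]
      simp)
  obtain ⟨P, hP⟩ := exists_congr_alt _ _ (skew_alt h2 _ hs₁) (skew_alt h2 _ hg) (gl_det_ne g₁) (gl_det_ne g)
  obtain ⟨a, -, hh⟩ := (isConj_gr_iff hn2 g₁ g).mpr ⟨P, 1, by rw [hP]; simp⟩
  rw [hh]
  exact no_core A hinn a _ (bal_symp hr.out hr2 hm2 e₁ hn3 hcent)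

include hr in
/-- Symmetric case with `n` odd. -/
lemma gr_sym_odd (hr2 : r ≠ 2) (hn3 : 3 ≤ n) (hcent : Subgroup.center (ProjectiveSpecialLinearGroup (Fin n) F) = ⊥)
    (A : Subgroup (MulAut (ProjectiveSpecialLinearGroup (Fin n) F)))
    (hinn : ∀ k : ProjectiveSpecialLinearGroup (Fin n) F, MulAut.conj k ∈ A)
    {m : ℕ} (hnm : n = 2 * m + 1)
    (g : GL (Fin n) F) (hgs : (g : Matrix (Fin n) (Fin n) F)ᵀ = g) :
    ¬ (Cfsg.pPrimeCore 2 ↥(A ⊓ Subgroup.centralizer {gr g}) ≠ ⊥) := by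
  classical
  have hodd := odd_card_of (F := F) hr2
  have h2 : (2 : F) ≠ 0 := two_ne_of_odd hodd
  have hn2 : 2 ≤ n := by omega
  have hm1 : 1 ≤ m := by omega
  let e : Unit ⊕ (Fin m ⊕ Fin m) ≃ Fin n := Fintype.equivFinOfCardEq (by simp; omega)
  set g₀ : GL (Fin n) F := rG e (gOddG F m h2)⁻¹ with hg₀
  have hs₀ : (g₀ : Matrix (Fin n) (Fin n) F)ᵀ = g₀ := rG_inv_symm e _ (gOdd_symm F m)
  set d := (g₀ : Matrix (Fin n) (Fin n) F).det with hd
  set δ := (g : Matrix (Fin n) (Fin n) F).det with hδ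
  have hd0 : d ≠ 0 := gl_det_ne g₀
  have hδ0 : δ ≠ 0 := gl_det_ne g
  have hs : (d * δ) ≠ 0 := mul_ne_zero hd0 hδ0
  have hdet : (((d * δ) • (g : Matrix (Fin n) (Fin n) F))).det = (d * δ) ^ n * δ := by
    rw [Matrix.det_smul, Fintype.card_fin]
  obtain ⟨P, hP⟩ := exists_congr_sym h2 (g₀ : Matrix (Fin n) (Fin n) F) ((d * δ) • (g : Matrix (Fin n) (Fin n) F)) hs₀
    (by rw [Matrix.transpose_smul, hgs]) hd0 (by
      rw [hdet]
      exact mul_ne_zero (pow_ne_zero _ hs) hδ0) (by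
      rw [hdet, ← hd]
      refine ⟨(d * δ) ^ (m + 1), ?_⟩
      rw [hnm]
      ring)
  obtain ⟨a, -, hh⟩ := (isConj_gr_iff hn2 g₀ g).mpr ⟨P, Units.mk0 _ hs, hP⟩
  rw [hh]
  obtain ⟨good1, good2⟩ := good_odd hodd hm1 (F := F)
  have i₀ : Fin m := ⟨0, by omega⟩
  refine no_core A hinn a _ (bal_orth hr.out h2 e hn3 hcent (Cfsg.quadFormOdd m F) (Cfsg.Agent.Lib.OrthoCount.qOdd m F)
    (fun v => (Cfsg.Agent.Lib.OrthoCount.qOdd_apply _ v).symm) (Cfsg.Agent.Lib.OrthoOrder.nondeg_qOdd hodd m)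
    (gOddG F m h2) (gOdd_symm F m) (two_mul_odd F m) (e₁ := Pi.single (Sum.inr (Sum.inl i₀)) 1) ?_ ?_ good1 good2)
  · rw [Cfsg.Agent.Lib.OrthoCount.qOdd_apply]
    simp [Cfsg.quadFormOdd, Pi.single_apply]
  · intro h
    have := congrFun h (Sum.inr (Sum.inl i₀))
    simp at this

include hr in
/-- Symmetric case with `n` even. -/
lemma gr_sym_even (hr2 : r ≠ 2) (hn3 : 3 ≤ n) (hcent : Subgroup.center (ProjectiveSpecialLinearGroup (Fin n) F) = ⊥)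
    (A : Subgroup (MulAut (ProjectiveSpecialLinearGroup (Fin n) F)))
    (hinn : ∀ k : ProjectiveSpecialLinearGroup (Fin n) F, MulAut.conj k ∈ A)
    {k : ℕ} (hnm : n = 2 * (k + 1))
    (g : GL (Fin n) F) (hgs : (g : Matrix (Fin n) (Fin n) F)ᵀ = g) :
    ¬ (Cfsg.pPrimeCore 2 ↥(A ⊓ Subgroup.centralizer {gr g}) ≠ ⊥) := by
  classical
  have hodd := odd_card_of (F := F) hr2
  have h2 : (2 : F) ≠ 0 := two_ne_of_odd hodd
  have hn2 : 2 ≤ n := by omega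
  have hk1 : 1 ≤ k := by omega
  obtain ⟨ν, hν⟩ := exists_nonsq h2
  have hab := hab_of_nonsq h2 hν
  let e₁ : Fin (k + 1) ⊕ Fin (k + 1) ≃ Fin n := Fintype.equivFinOfCardEq (by simp; omega)
  let e₂ : (Fin k ⊕ Fin k) ⊕ Fin 2 ≃ Fin n := Fintype.equivFinOfCardEq (by simp; omega)
  set g₂ : GL (Fin n) F := rG e₁ (gPlusG F (k + 1))⁻¹ with hg₂
  set g₃ : GL (Fin n) F := rG e₂ (gMinusG F k hab)⁻¹ with hg₃
  have hs₂ : (g₂ : Matrix (Fin n) (Fin n) F)ᵀ = g₂ := rG_inv_symm e₁ _ (gramHyp_symm F (k + 1))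
  have hs₃ : (g₃ : Matrix (Fin n) (Fin n) F)ᵀ = g₃ := rG_inv_symm e₂ _ (gMinus_symm F k 0 (-ν))
  have hd₂ : (g₂ : Matrix (Fin n) (Fin n) F).det = (((-1 : F) ^ (k + 1))⁻¹) := by
    rw [hg₂, det_rG_inv]
    change ((gramHyp (Fin (k + 1)) F).det)⁻¹ = _
    rw [det_gramHyp]
  have hd₃ : (g₃ : Matrix (Fin n) (Fin n) F).det = (((-1 : F) ^ k * (4 * (-ν) - 0 ^ 2))⁻¹) := by
    rw [hg₃, det_rG_inv]
    change ((gMinus F k 0 (-ν)).det)⁻¹ = _
    rw [det_gMinus]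
  have hν0 : ν ≠ 0 := fun h => hν (h ▸ IsSquare.zero)
  have hns : ¬ IsSquare ((g₂ : Matrix (Fin n) (Fin n) F).det * (g₃ : Matrix (Fin n) (Fin n) F).det) := by
    rw [hd₂, hd₃, ← mul_inv, isSquare_inv]
    have e : (-1 : F) ^ (k + 1) * ((-1) ^ k * (4 * (-ν) - 0 ^ 2)) = 4 * ν * ((-1) ^ k * (-1) ^ k) := by
      ring
    have e' : (-1 : F) ^ k * (-1) ^ k = 1 := by
      rw [← mul_pow]
      simp
    rw [e, e', mul_one]
    rintro ⟨r, hr⟩
    apply hν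
    refine ⟨r / 2, ?_⟩
    field_simp
    linear_combination hr
  have i₀ : Fin (k + 1) := ⟨0, by omega⟩
  have j₀ : Fin k := ⟨0, by omega⟩
  rcases sq_dichotomy (gl_det_ne g) hns with h3 | h3
  · obtain ⟨a, -, hh⟩ := conj_sym_of_square h2 hn2 _ _ hs₂ hgs h3
    rw [hh]
    obtain ⟨good1, good2⟩ := good_plus hodd (show 2 ≤ k + 1 by omega) (F := F)
    refine no_core A hinn a _ (bal_orth hr.out h2 e₁ hn3 hcent (Cfsg.quadFormPlus (k + 1) F) (Cfsg.Agent.Lib.OrthoCount.qPlus (k + 1) F)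
      (fun v => (Cfsg.Agent.Lib.OrthoCount.qPlus_apply _ v).symm) (Cfsg.Agent.Lib.OrthoOrder.nondeg_qPlus (k + 1))
      (gPlusG F (k + 1)) (gramHyp_symm F (k + 1)) (two_mul_plus F (k + 1)) (e₁ := Pi.single (Sum.inl i₀) 1) ?_ ?_ good1 good2)
    · rw [Cfsg.Agent.Lib.OrthoCount.qPlus_apply]
      simp [Cfsg.quadFormPlus, Pi.single_apply]
    · intro h
      have := congrFun h (Sum.inl i₀)
      simp at this
  · obtain ⟨a, -, hh⟩ := conj_sym_of_square h2 hn2 _ _ hs₃ hgs h3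
    rw [hh]
    obtain ⟨good1, good2⟩ := good_minus hodd hk1 (aniso_of_nonsq hν)
    refine no_core A hinn a _ (bal_orth hr.out h2 e₂ hn3 hcent (Cfsg.quadFormMinus k F 0 (-ν)) (Cfsg.Agent.Lib.OrthoCount.qMinus k 0 (-ν))
      (fun v => (Cfsg.Agent.Lib.OrthoCount.qMinus_apply _ _ _ v).symm) (Cfsg.Agent.Lib.OrthoOrder.nondeg_qMinus 0 (-ν) (aniso_of_nonsq hν) k)
      (gMinusG F k hab) (gMinus_symm F k 0 (-ν)) (two_mul_minus F k 0 (-ν)) (e₁ := Pi.single (Sum.inl (Sum.inl j₀)) 1) ?_ ?_ good1 good2)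
    · rw [Cfsg.Agent.Lib.OrthoCount.qMinus_apply]
      simp [Cfsg.quadFormMinus, Pi.single_apply]
    · intro h
      have := congrFun h (Sum.inl (Sum.inl j₀))
      simp at this

include hr in
/-- The graph-type case. -/
lemma graph_no_core (hr2 : r ≠ 2) (hn3 : 3 ≤ n) (hcent : Subgroup.center (ProjectiveSpecialLinearGroup (Fin n) F) = ⊥)
    (A : Subgroup (MulAut (ProjectiveSpecialLinearGroup (Fin n) F)))
    (hinn : ∀ k : ProjectiveSpecialLinearGroup (Fin n) F, MulAut.conj k ∈ A)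
    (g : GL (Fin n) F) (τ : F ≃+* F)
    (hord : orderOf (csAut g τ * itAut : MulAut (ProjectiveSpecialLinearGroup (Fin n) F)) = 2) :
    ¬ (Cfsg.pPrimeCore 2 ↥(A ⊓ Subgroup.centralizer {(csAut g τ * itAut : MulAut (ProjectiveSpecialLinearGroup (Fin n) F))}) ≠ ⊥) := by
  classical
  have hn2 : 2 ≤ n := by omega
  have hy : (csAut g τ * itAut : MulAut (ProjectiveSpecialLinearGroup (Fin n) F)) ^ 2 = 1 := by
    rw [← hord]
    exact pow_orderOf_eq_one _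
  have hy' := hy
  rw [csAut_it_sq] at hy'
  obtain ⟨hτ2, -⟩ := eq_of_csAut_eq_one hn2 hy'
  by_cases hτ : τ = RingEquiv.refl F
  · subst hτ
    obtain ⟨g', hg', hc⟩ := involution_cases hn3 (isGraphClass_gr hn3 g) hord
    change ¬ (Cfsg.pPrimeCore 2 ↥(A ⊓ Subgroup.centralizer {gr g}) ≠ ⊥)
    rw [hg']
    rcases hc with hc | hc
    · rcases Nat.even_or_odd' n with ⟨m, hm | hm⟩
      · obtain ⟨k, rfl⟩ : ∃ k, m = k + 1 := ⟨m - 1, by omega⟩
        exact gr_sym_even hr2 hn3 hcent A hinn hm g' hc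
      · exact gr_sym_odd hr2 hn3 hcent A hinn hm g' hc
    · exact gr_skew hr2 hn3 hcent A hinn g' hc
  · have hτord : orderOf τ = 2 := by
      haveI : Fact (Nat.Prime 2) := ⟨Nat.prime_two⟩
      apply orderOf_eq_prime
      · rw [pow_two]
        exact hτ2
      · exact hτ
    obtain ⟨h, hh⟩ := lang_graphField hn2 τ hτord g hy
    rw [hh]
    exact no_core A hinn (dl h) _ (bal_graphField hr2 hn3 hcent τ hτord)

end graph

/-- The theorem. -/
theorem bal_main [Fintype F] (r : ℕ) [hr : Fact r.Prime] [CharP F r] (hn : 2 ≤ n)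
    (hK : IsSimpleGroup (ProjectiveSpecialLinearGroup (Fin n) F))
    (𝒢 : Subgroup (MulAut (ProjectiveSpecialLinearGroup (Fin n) F)))
    (hinn : ∀ k : ProjectiveSpecialLinearGroup (Fin n) F, MulAut.conj k ∈ 𝒢)
    (p : ℕ) [hp : Fact p.Prime] (hpr : p ≠ r) (β : MulAut (ProjectiveSpecialLinearGroup (Fin n) F))
    (hord : orderOf β = p) (hnot : ¬ Cfsg.IsInnerDiagonalAutPSL β) :
    Cfsg.pPrimeCore p ↥(𝒢 ⊓ Subgroup.centralizer {β}) ≠ ⊥ ↔
      ((∃ γ φ : MulAut (ProjectiveSpecialLinearGroup (Fin n) F), Cfsg.IsInnerDiagonalAutPSL γ ∧ Cfsg.IsFieldAutPSL φ ∧ β = φ.trans γ) ∧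
        Nat.Coprime p (Nat.card ↥(MonoidHom.eqLocus β.toMonoidHom (MonoidHom.id (ProjectiveSpecialLinearGroup (Fin n) F))))) := by
  classical
  obtain ⟨f', hr', hF⟩ := FiniteField.card F r
  have hcent := center_bot hn hK
  have hcases : (∃ (g : GL (Fin n) F) (σ : F ≃+* F), β = csAut g σ) ∨
      (3 ≤ n ∧ ∃ (g : GL (Fin n) F) (σ : F ≃+* F), β = csAut g σ * itAut) := by
    rcases hn.eq_or_lt with rfl | hn3
    · exact Or.inl (aut_two hr' f'.pos hF β)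
    · rcases aut_ge3 hr' f'.pos hF hn3 β with h | h
      · exact Or.inl h
      · exact Or.inr ⟨hn3, h⟩
  rcases hcases with ⟨g, σ, rfl⟩ | ⟨hn3, g, σ, rfl⟩
  · -- field type
    have hσ1 : σ ≠ RingEquiv.refl F := by
      rintro rfl
      exact hnot (isInnerDiag_csAut g)
    have hy : (csAut g σ) ^ p = 1 := by
      rw [← hord]
      exact pow_orderOf_eq_one _
    have hσp : σ ^ p = 1 := by
      have h1 := hy
      rw [csAut_pow] at h1
      exact (eq_of_csAut_eq_one hn h1).1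
    have hσo : orderOf σ = p := orderOf_eq_prime hσp hσ1
    obtain ⟨h, hh⟩ := lang_field hn σ hp.out.pos hσo g hy
    have h1 : ∃ γ φ : MulAut (ProjectiveSpecialLinearGroup (Fin n) F), Cfsg.IsInnerDiagonalAutPSL γ ∧ Cfsg.IsFieldAutPSL φ ∧ csAut g σ = φ.trans γ :=
      ⟨dl g, fa σ, isInnerDiag_csAut g, ⟨σ, isStd_csAut σ⟩, (dl_mul_fa g σ).symm⟩
    rw [hh] at h1 ⊢
    simp only [h1, true_and]
    exact bal_transfer 𝒢 hinn (dl h) (fa σ) (fun A' hA' => bal_field hn hK hpr σ hσo A' hA')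
  · -- graph type
    have hp2 : p = 2 := by
      by_contra hp2
      obtain ⟨k, hk⟩ : ∃ k, p + 1 = 2 * k := by
        obtain ⟨t, ht⟩ := hp.out.odd_of_ne_two hp2
        exact ⟨t + 1, by omega⟩
      have hy : (csAut g σ * itAut : MulAut (ProjectiveSpecialLinearGroup (Fin n) F)) ^ p = 1 := by
        rw [← hord]
        exact pow_orderOf_eq_one _
      have h1 : (csAut g σ * itAut : MulAut (ProjectiveSpecialLinearGroup (Fin n) F)) ^ (p + 1) = csAut g σ * itAut := by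
        rw [pow_succ, hy, one_mul]
      rw [hk, pow_mul, csAut_it_sq, csAut_pow] at h1
      exact csAut_it_ne hn3 _ _ _ _ h1.symm
    subst hp2
    have hr2 : r ≠ 2 := fun h => hpr h.symm
    constructor
    · intro h
      exact absurd h (graph_no_core hr2 hn3 hcent 𝒢 hinn g σ hord)
    · rintro ⟨⟨γ, φ, hγ, ⟨ρ, hρ⟩, he⟩, -⟩
      exfalso
      obtain ⟨u, rfl⟩ := (isInnerDiag_iff γ).mp hγ
      have hρ' : φ = csAut 1 ρ := (isStd_iff ρ φ).mp hρ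
      subst hρ'
      have h3 : (csAut g σ * itAut : MulAut (ProjectiveSpecialLinearGroup (Fin n) F)) = csAut u ρ := by
        rw [he]
        exact dl_mul_fa u ρ
      exact csAut_it_ne hn3 _ _ _ _ h3

end Cfsg.Agent.Lib.BalPSL
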