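import Cfsg.Agent.Lib.BalPSL.OrthRigid
import Cfsg.Agent.Lib.AutPOm.BalStd
import Cfsg.Agent.Lib.AutPOm.Cls
import Cfsg.Agent.Lib.AutPOm.Odd
import Cfsg.Agent.Lib.OrthoThree
import Cfsg.Agent.Lib.OrthoFourPlus
import Cfsg.Agent.Lib.OrthoFourMinus
import Cfsg.Agent.Lib.OrthoOrder

/-!
# Graph automorphisms of `PSL_n(F)` with orthogonal centraliser
-/

set_option autoImplicit false

namespace Cfsg.Agent.Lib.BalPSL

open Matrix
open scoped MatrixGroups
open QuadraticMap Cfsg.Agent.Lib.OrthoBasic Cfsg.Agent.Lib.OrthoSiegel Cfsg.Agent.Lib.OrthoSimple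
open Cfsg.Agent.Lib.AutPSL
open Cfsg.Agent.Lib.AutPOm (fixP mem_fixP conj_conj_aut eq_one_of_conj_eq_one)

variable {F : Type*} [Field F] {n : ℕ}

section gen

variable {ι : Type} [Fintype ι] [DecidableEq ι]

/-- The inclusion of `Ω` in `GL`. -/
noncomputable def omG (f₀ : (ι → F) → F) : Cfsg.Omega F f₀ →* GL ι F :=
  (Cfsg.isometryGroup F f₀).subtype.comp (commutator (Cfsg.isometryGroup F f₀)).subtype

lemma omG_apply (f₀ : (ι → F) → F) (s : Cfsg.Omega F f₀) : omG f₀ s = ((s : Cfsg.isometryGroup F f₀) : GL ι F) := rfl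

lemma omG_injective (f₀ : (ι → F) → F) : Function.Injective (omG f₀) := by
  intro a b h
  exact Subtype.ext (Subtype.ext h)

lemma hom_comm_trivial {G A : Type*} [Group G] [CommGroup A] (f : G →* A) {g : G} (h : g ∈ commutator G) : f g = 1 := by
  have h4 : commutator G ≤ f.ker := by
    rw [commutator_def, Subgroup.commutator_le]
    intro a _ b _
    rw [MonoidHom.mem_ker, map_commutatorElement, commutatorElement_eq_one_iff_mul_comm]
    exact mul_comm _ _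
  exact h4 h

lemma omG_det (f₀ : (ι → F) → F) (s : Cfsg.Omega F f₀) : ((omG f₀ s : GL ι F) : Matrix ι ι F).det = 1 := by
  have h1 := hom_comm_trivial ((Matrix.GeneralLinearGroup.det).comp (Cfsg.isometryGroup F f₀).subtype) s.2
  have h2 := congrArg Units.val h1
  rwa [MonoidHom.comp_apply, Matrix.GeneralLinearGroup.val_det_apply] at h2

lemma omG_preserves (f₀ : (ι → F) → F) (s : Cfsg.Omega F f₀) (v : ι → F) :
    f₀ (((omG f₀ s : GL ι F) : Matrix ι ι F) *ᵥ v) = f₀ v :=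
  (s : Cfsg.isometryGroup F f₀).2 v v

lemma omG_iso (h2 : (2 : F) ≠ 0) (f₀ : (ι → F) → F) (A : Matrix ι ι F) (hA : Aᵀ = A) (h2Q : ∀ v, 2 * f₀ v = v ⬝ᵥ (A *ᵥ v))
    (s : Cfsg.Omega F f₀) :
    ((omG f₀ s : GL ι F) : Matrix ι ι F)ᵀ * A * ((omG f₀ s : GL ι F) : Matrix ι ι F) = A := by
  set M := ((omG f₀ s : GL ι F) : Matrix ι ι F) with hM
  have h3 := sym_eq_zero h2 (Mᵀ * A * M - A) (by
    rw [Matrix.transpose_sub, Matrix.transpose_mul, Matrix.transpose_mul, Matrix.transpose_transpose, hA, Matrix.mul_assoc]) (by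
    intro v
    rw [Matrix.sub_mulVec, dotProduct_sub, ← form_transpose, ← h2Q, hM, omG_preserves f₀ s, ← h2Q, sub_self])
  exact sub_eq_zero.mp h3

lemma omG_norm (h2 : (2 : F) ≠ 0) (f₀ : (ι → F) → F) (A : Matrix ι ι F) (h2Q : ∀ v, 2 * f₀ v = v ⬝ᵥ (A *ᵥ v))
    (u : GL ι F) (c : Fˣ) (hc : (u : Matrix ι ι F)ᵀ * A * (u : Matrix ι ι F) = (c : F) • A) (s : Cfsg.Omega F f₀) :
    ∃ s', omG f₀ s' = u * omG f₀ s * u⁻¹ := by
  have hsim : ∀ v : ι → F, f₀ ((u : Matrix ι ι F) *ᵥ v) = (c : F) * f₀ v := by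
    intro v
    apply mul_left_cancel₀ h2
    rw [h2Q, form_transpose, hc, Matrix.smul_mulVec, dotProduct_smul, smul_eq_mul, ← h2Q]
    ring
  have hp : IsSemisimilarityPair f₀ u (RingEquiv.refl F) := ⟨c, fun v => by
    simpa using hsim v⟩
  refine ⟨Cfsg.Agent.Lib.GammaCount.conjG f₀ (Cfsg.Agent.Lib.GammaCount.mkG f₀ hp) s, ?_⟩
  rw [omG_apply, Cfsg.Agent.Lib.GammaCount.conjG_coe]
  change Cfsg.Agent.Lib.GammaCount.act u (RingEquiv.refl F) _ = _
  rw [Cfsg.Agent.Lib.GammaCount.act_apply]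
  congr 2

/-- The statement for an orthogonal graph automorphism, given the structure of `PΩ`. -/
theorem bal_orth [Fintype F] {r : ℕ} (hr : r.Prime) [CharP F r] (h2 : (2 : F) ≠ 0) (e : ι ≃ Fin n) (hn3 : 3 ≤ n)
    (hcent : Subgroup.center (ProjectiveSpecialLinearGroup (Fin n) F) = ⊥)
    (f₀ : (ι → F) → F) (q : QuadraticForm F (ι → F)) (hf : ∀ v, f₀ v = q v) (hQ : Nondeg q)
    (A : GL ι F) (hA : (A : Matrix ι ι F)ᵀ = A) (h2Q : ∀ v, 2 * f₀ v = v ⬝ᵥ ((A : Matrix ι ι F) *ᵥ v))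
    {e₁ : ι → F} (he₁ : q e₁ = 0) (he₁0 : e₁ ≠ 0)
    (hNo : NoOdd (Cfsg.POmega F f₀)) (hinv : ∃ t : Cfsg.POmega F f₀, orderOf t = 2) :
    ¬ Nat.Coprime 2 (Nat.card (fixP (gr (rG e A⁻¹)))) ∧
    ∀ A' : Subgroup (MulAut (ProjectiveSpecialLinearGroup (Fin n) F)),
      (∀ k : ProjectiveSpecialLinearGroup (Fin n) F, MulAut.conj k ∈ A') →
      ((∃ N : Subgroup ↥(A' ⊓ Subgroup.centralizer {gr (rG e A⁻¹)}), N.Normal ∧ (Nat.card N).Coprime 2 ∧ N ≠ ⊥) ↔
        Nat.Coprime 2 (Nat.card (fixP (gr (rG e A⁻¹))))) := by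
  classical
  have hn2 : 2 ≤ n := by omega
  have hx2 : (gr (rG e A⁻¹)) ^ 2 = 1 := by
    rw [← orderOf_gr_sym hn3 _ (rG_inv_symm e A hA)]
    exact pow_orderOf_eq_one _
  apply form_core e hr hn3 hcent A hx2 (omG f₀) (omG_injective f₀) (omG_det f₀) (omG_iso h2 f₀ _ hA h2Q)
    (fun u c hc s => omG_norm h2 f₀ _ h2Q u c hc s) hNo hinv
  intro g τ hfix
  apply Sm_lines e hn2
  have hdim : 3 ≤ Module.finrank F (ι → F) := by
    rw [Module.finrank_fintype_fun_eq_card, Fintype.card_congr e, Fintype.card_fin]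
    exact hn3
  obtain ⟨f₁, hp⟩ := exists_partner hQ he₁ he₁0
  have hl : ∀ v : ι → F, q v = 0 → v ≠ 0 → ∃ a : F, a ≠ 0 ∧ Sm e g τ v = a • v := by
    intro v hv hv0
    obtain ⟨f', hf'⟩ := exists_partner hQ hv hv0
    obtain ⟨y, hqy, hye, hyf⟩ := exists_aniso_perp h2 hQ hdim hf'
    have hmem := siegel_mem_comm h2 hQ hf' hye hyf
    have hmem' : siegel hQ hf'.Qe hye ∈ (commutator (Cfsg.isometryGroup F f₀)).map (Cfsg.Agent.Lib.OrthoCount.isoOG f₀ q hf).toMonoidHom := by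
      rw [Cfsg.Agent.Lib.OrthoFinal.map_commutator_equiv]
      exact hmem
    obtain ⟨s, hs, hse⟩ := hmem'
    let s' : Cfsg.Omega F f₀ := ⟨s, hs⟩
    have hact : ∀ x, ((omG f₀ s' : GL ι F) : Matrix ι ι F) *ᵥ x = siegelLin q v y x := by
      intro x
      have h3 := congrArg (fun t : OG q => (t : (ι → F) ≃ₗ[F] (ι → F)) x) hse
      exact h3
    have hcomm := Sm_comm_nil e g τ (omG f₀ s') (omG_det f₀ s') (hfix s') (N := nilS q v y)
      (fun x => by rw [hact, siegelLin_eq_add]) (nilS_smul v y) (nilS3 hv hye) (nilS_self hv hye) hv0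
    have hfe : QuadraticMap.polar q f' v = 1 := by
      rw [polar_comm]
      exact hf'.B
    exact line_of_nilS (Sm_smul e g τ) h2 hv (Sm_ne_zero e g τ hv0) hye hqy hfe hcomm
  obtain ⟨α, hα, hall⟩ := rigid_orth h2 hQ hdim hp (Sm_add e g τ) (Sm_smul e g τ) hl
  exact fun v _ => ⟨α, hα, hall v⟩

end gen

/-! ### The structure of `PΩ` -/

section std

/-- Transvections have order dividing three in characteristic three. -/
lemma tv_cube {K : Type*} [Field K] {v φ : Fin n → K} (h : φ ⬝ᵥ v = 0) (h3 : (3 : K) = 0) : tv v φ ^ 3 = 1 := by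
  have h4 : v + v + v = 0 := by
    funext i
    have : v i + v i + v i = 3 * v i := by ring
    simp [this, h3]
  have e1 : tv (v + v) φ = tv v φ * tv v φ := tv_add_left h h
  have e2 : tv (v + v + v) φ = tv (v + v) φ * tv v φ := tv_add_left (by rw [dotProduct_add, h, add_zero]) h
  rw [h4, tv_zero_left, e1] at e2
  rw [pow_succ, pow_two]
  exact e2.symm

/-- The structure of `PSL_2(K)`, for `K` of odd order. -/
lemma noOdd_PSL2 (K : Type*) [Field K] [Fintype K] (hodd : Odd (Fintype.card K)) :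
    NoOdd (ProjectiveSpecialLinearGroup (Fin 2) K) ∧ ∃ t : ProjectiveSpecialLinearGroup (Fin 2) K, orderOf t = 2 := by
  classical
  haveI : Fact (Nat.Prime 2) := ⟨Nat.prime_two⟩
  have hq1 : 1 < Fintype.card K := Fintype.one_lt_card
  have hinv : ∃ t : ProjectiveSpecialLinearGroup (Fin 2) K, orderOf t = 2 := by
    obtain ⟨e, -, he⟩ := exists_order_p (RingHom.id K) (le_refl 2) (p := 2) (by
      rw [Cfsg.Agent.Lib.ClassicalSmall.card_SL2]
      apply Dvd.dvd.mul_right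
      apply Dvd.dvd.mul_right
      exact (hodd.add_one).two_dvd)
    exact ⟨e, he⟩
  refine ⟨?_, hinv⟩
  by_cases h5 : 4 ≤ Fintype.card K
  · haveI := Matrix.ProjectiveSpecialLinearGroup.rank_two_simple (F := K) (by rwa [Nat.card_eq_fintype_card])
    exact noOdd_of_simple hinv
  · -- three elements
    have hq3 : Fintype.card K = 3 := by
      obtain ⟨k, hk⟩ := hodd
      omega
    have h3 : (3 : K) = 0 := by
      have := FiniteField.cast_card_eq_zero K
      rw [hq3] at this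
      exact_mod_cast this
    intro M hM hno
    rw [eq_bot_iff]
    intro a ha
    rw [Subgroup.mem_bot]
    have hc1 : Nat.card M ∣ Nat.card (SpecialLinearGroup (Fin 2) K) :=
      (Subgroup.card_subgroup_dvd_card M).trans (Subgroup.card_quotient_dvd_card _)
    rw [Cfsg.Agent.Lib.ClassicalSmall.card_SL2, hq3] at hc1
    have hc2 : (Nat.card M).Coprime 2 := by
      rw [Nat.coprime_comm, Nat.Prime.coprime_iff_not_dvd Nat.prime_two]
      intro hd
      obtain ⟨e, he⟩ := exists_prime_orderOf_dvd_card' 2 hd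
      have h4 := hno e.1 e.2 (by rw [Subgroup.orderOf_coe, he])
      have h5 : e = 1 := Subtype.ext h4
      rw [h5, orderOf_one] at he
      omega
    have h6 : Nat.card M ∣ 2 ^ 3 * 3 := by simpa using hc1
    have h7 : Nat.card M ∣ 3 := (Nat.Coprime.pow_right 3 hc2).dvd_of_dvd_mul_left h6
    have hcomm : ∀ v φ : Fin 2 → K, φ ⬝ᵥ v = 0 → MulAut.conj a (pt v φ) = pt v φ := by
      intro v φ h
      set t := pt v φ with ht
      have htM : t * a * t⁻¹ ∈ M := hM.conj_mem a ha t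
      have hc : t * a * t⁻¹ = a := by
        rcases (Nat.dvd_prime Nat.prime_three).1 h7 with h8 | h8
        · exact comm_of_card_le_two M (by omega) ha htM
        · apply comm_of_card_three M h8 ha htM
          rw [ht, pt, ← QuotientGroup.mk_pow, tv_cube h h3]
          rfl
      rw [MulAut.conj_apply]
      calc a * t * a⁻¹ = (t * a * t⁻¹) * t * a⁻¹ := by rw [hc]
        _ = t := by group
    obtain ⟨s, rfl⟩ := QuotientGroup.mk_surjective a
    rw [csAut_conj] at hcomm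
    obtain ⟨-, c, hc⟩ := rigid_rat (RingHom.id K) (le_refl 2) _ _ (fun v φ h => hcomm _ _ (by simpa using h))
    rw [mk_eq_one_iff]
    refine ⟨c, ?_⟩
    have h8 := congrArg Units.val hc
    rwa [scalar_coe] at h8

variable {ι : Type} [Fintype ι] [DecidableEq ι]

lemma good_big [Fintype F] {f₀ : (ι → F) → F} {q : QuadraticForm F (ι → F)} (S : Cfsg.Agent.Lib.AutPOm.Sys f₀ q) :
    NoOdd (Cfsg.POmega F f₀) ∧ ∃ t : Cfsg.POmega F f₀, orderOf t = 2 := by
  obtain ⟨fr⟩ := S.fr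
  haveI := Cfsg.Agent.Lib.OrthoFinal.isSimple_POmega f₀ q S.hf S.hQ S.hgen fr
  have h := Cfsg.Agent.Lib.AutPOm.exists_invol S
  exact ⟨noOdd_of_simple h, h⟩

lemma good_odd [Fintype F] (hodd : Odd (Fintype.card F)) {m : ℕ} (hm : 1 ≤ m) :
    NoOdd (Cfsg.POmega F (Cfsg.quadFormOdd m F)) ∧ ∃ t : Cfsg.POmega F (Cfsg.quadFormOdd m F), orderOf t = 2 := by
  rcases hm.eq_or_lt with rfl | hm2
  · obtain ⟨e⟩ := Cfsg.Agent.Lib.OrthoThree.pomega_three hodd
    obtain ⟨h1, t, ht⟩ := noOdd_PSL2 F hodd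
    exact ⟨h1.congr e.symm, e.symm t, by rw [MulEquiv.orderOf_eq, ht]⟩
  · exact good_big (Cfsg.Agent.Lib.AutPOm.sys_odd hodd hm2)

lemma good_plus [Fintype F] (hodd : Odd (Fintype.card F)) {m : ℕ} (hm : 2 ≤ m) :
    NoOdd (Cfsg.POmega F (Cfsg.quadFormPlus m F)) ∧ ∃ t : Cfsg.POmega F (Cfsg.quadFormPlus m F), orderOf t = 2 := by
  rcases hm.eq_or_lt with rfl | hm2
  · have h3 : 3 ≤ Fintype.card F := by
      have : 1 < Fintype.card F := Fintype.one_lt_card
      obtain ⟨k, hk⟩ := hodd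
      omega
    obtain ⟨e⟩ := Cfsg.Agent.Lib.OrthoFourPlus.pomega_four_plus h3
    obtain ⟨h1, t, ht⟩ := noOdd_PSL2 F hodd
    refine ⟨(h1.prod h1).congr e.symm, e.symm (t, 1), ?_⟩
    rw [MulEquiv.orderOf_eq, Prod.orderOf_mk, orderOf_one, ht]
    rfl
  · exact good_big (Cfsg.Agent.Lib.AutPOm.sys_plus hm2)

lemma good_minus [Fintype F] (hodd : Odd (Fintype.card F)) {k : ℕ} (hk : 1 ≤ k) {a b : F}
    (hab : ∀ z₁ z₂ : F, z₁ ^ 2 + a * z₁ * z₂ + b * z₂ ^ 2 = 0 → z₁ = 0 ∧ z₂ = 0) :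
    NoOdd (Cfsg.POmega F (Cfsg.quadFormMinus k F a b)) ∧ ∃ t : Cfsg.POmega F (Cfsg.quadFormMinus k F a b), orderOf t = 2 := by
  rcases hk.eq_or_lt with rfl | hk2
  · obtain ⟨K, _, _, _, θ, hK, -⟩ := Cfsg.Agent.Lib.QuadExt.exists_data (q := Fintype.card F) rfl a b hab
    obtain ⟨e⟩ := Cfsg.Agent.Lib.OrthoFourMinus.pomega_four_minus (F := F) (K := K) rfl hK a b hab
    have hoddK : Odd (Fintype.card K) := by
      rw [hK]
      exact hodd.pow
    obtain ⟨h1, t, ht⟩ := noOdd_PSL2 K hoddK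
    exact ⟨h1.congr e.symm, e.symm t, by rw [MulEquiv.orderOf_eq, ht]⟩
  · exact good_big (Cfsg.Agent.Lib.AutPOm.sys_minus hk2 hab)

end std

end Cfsg.Agent.Lib.BalPSL
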