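import Cfsg.Agent.Lib.BalPSL.Symp
import Cfsg.Agent.Lib.OrthoSimple
import Cfsg.Agent.Lib.PgoPsi

/-!
# Rigidity for quadratic spaces: semilinear maps fixing all singular points
-/

set_option autoImplicit false

namespace Cfsg.Agent.Lib.BalPSL

open QuadraticMap Cfsg.Agent.Lib.OrthoBasic Cfsg.Agent.Lib.OrthoSiegel Cfsg.Agent.Lib.OrthoSimple

variable {F : Type*} [Field F] {V : Type*} [AddCommGroup V] [Module F V] {q : QuadraticForm F V}

/-- An anisotropic vector orthogonal to a hyperbolic pair from a nonzero orthogonal vector. -/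
lemma exists_aniso_of_ne (hQ : Nondeg q) {e f : V} (h : IsHypPair q e f) {z : V} (hz0 : z ≠ 0)
    (hze : polar q e z = 0) (hzf : polar q f z = 0) (hz : q z = 0) :
    ∃ z' : V, polar q e z' = 0 ∧ polar q f z' = 0 ∧ polar q z z' ≠ 0 := by
  obtain ⟨v, hv⟩ := hQ z hz0
  have hee := polar_self_zero h.Qe
  have hff := polar_self_zero h.Qf
  have hef := h.B
  have hfe : polar q f e = 1 := by rw [polar_comm]; exact hef
  refine ⟨v - polar q v f • e - polar q v e • f, ?_, ?_, ?_⟩
  · rw [polar_sub_right, polar_sub_right, polar_smul_r, polar_smul_r, hee, hef, polar_comm q e v]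
    ring
  · rw [polar_sub_right, polar_sub_right, polar_smul_r, polar_smul_r, hfe, hff, polar_comm q f v]
    ring
  · rw [polar_sub_right, polar_sub_right, polar_smul_r, polar_smul_r, polar_comm q z e, polar_comm q z f, hze, hzf]
    simpa using hv

lemma exists_aniso_perp [FiniteDimensional F V] (h2 : (2 : F) ≠ 0) (hQ : Nondeg q) (hdim : 3 ≤ Module.finrank F V)
    {e f : V} (h : IsHypPair q e f) : ∃ y, q y ≠ 0 ∧ polar q e y = 0 ∧ polar q f y = 0 := by
  let L : V →ₗ[F] (F × F) := LinearMap.prod (polarBilin q e) (polarBilin q f)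
  have hlt : Module.finrank F (F × F) < Module.finrank F V := by
    simp only [Module.finrank_prod, Module.finrank_self]
    omega
  have hker := LinearMap.ker_ne_bot_of_finrank_lt (f := L) hlt
  obtain ⟨z, hzm, hz0⟩ := Submodule.exists_mem_ne_zero_of_ne_bot hker
  have hz : L z = 0 := hzm
  have hze : polar q e z = 0 := congrArg Prod.fst hz
  have hzf : polar q f z = 0 := congrArg Prod.snd hz
  by_cases hqz : q z = 0
  · obtain ⟨z', h1, h3, h4⟩ := exists_aniso_of_ne hQ h hz0 hze hzf hqz
    by_cases hqz' : q z' = 0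
    · refine ⟨z + z', ?_, ?_, ?_⟩
      · rw [Q_add, hqz, hqz', zero_add, zero_add]
        exact h4
      · rw [polar_add_right, hze, h1, add_zero]
      · rw [polar_add_right, hzf, h3, add_zero]
    · exact ⟨z', hqz', h1, h3⟩
  · exact ⟨z, hqz, hze, hzf⟩

/-- A semilinear map with all singular points fixed is a scalar. -/
theorem rigid_orth [FiniteDimensional F V] (h2 : (2 : F) ≠ 0) (hQ : Nondeg q) (hdim : 3 ≤ Module.finrank F V)
    {e f : V} (h : IsHypPair q e f) {τ : F ≃+* F} {S : V → V}
    (hSadd : ∀ x y, S (x + y) = S x + S y) (hSsmul : ∀ (c : F) x, S (c • x) = τ c • S x)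
    (hline : ∀ v : V, q v = 0 → v ≠ 0 → ∃ a : F, a ≠ 0 ∧ S v = a • v) :
    ∃ α : F, α ≠ 0 ∧ ∀ v, S v = α • v := by
  have hee := polar_self_zero h.Qe
  have hff := polar_self_zero h.Qf
  have hef := h.B
  have hfe : polar q f e = 1 := by rw [polar_comm]; exact hef
  have hf0 : f ≠ 0 := by
    rintro rfl
    rw [polar_zero_right] at hef
    exact zero_ne_one hef
  obtain ⟨α, hα0, hα⟩ := hline e h.Qe h.ne_zero_left
  obtain ⟨β, hβ0, hβ⟩ := hline f h.Qf hf0
  have hS0 : S 0 = 0 := by
    have := hSsmul 0 0
    rw [zero_smul, map_zero, zero_smul] at this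
    exact this
  have hz : ∀ z, polar q e z = 0 → polar q f z = 0 → q z ≠ 0 → S z = α • z ∧ (∀ c, τ c = c) ∧ β = α := by
    intro z hze hzf hqz
    have hzez : polar q z e = 0 := by rw [polar_comm]; exact hze
    have hzfz : polar q z f = 0 := by rw [polar_comm]; exact hzf
    have hzz : polar q z z = 2 * q z := polar_self' q z
    have hw : ∀ c : F, ∃ l : F, S (e + c • z + (-(c ^ 2 * q z)) • f) = l • (e + c • z + (-(c ^ 2 * q z)) • f) := by
      intro c
      set a : F := -(c ^ 2 * q z) with ha
      have hq0 : q (e + c • z + a • f) = 0 := by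
        rw [Q_add, Q_add, Q_smul, Q_smul, h.Qe, h.Qf, polar_smul_r, polar_add_left, polar_smul_r, polar_smul_r, polar_smul_l, hef, hze, hzfz, ha]
        ring
      have hne : e + c • z + a • f ≠ 0 := by
        intro h0
        have h3 : polar q (e + c • z + a • f) f = 0 := by rw [h0, polar_zero_left]
        rw [polar_add_left, polar_add_left, polar_smul_l, polar_smul_l, hef, hzfz, hff] at h3
        simp at h3
      obtain ⟨l, -, hl⟩ := hline _ hq0 hne
      exact ⟨l, hl⟩
    have hindep : ∀ x₁ x₂ x₃ : F, x₁ • e + x₂ • z + x₃ • f = 0 → x₁ = 0 ∧ x₂ = 0 ∧ x₃ = 0 := by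
      intro x₁ x₂ x₃ h0
      have h3 : polar q (x₁ • e + x₂ • z + x₃ • f) f = 0 := by rw [h0, polar_zero_left]
      have h4 : polar q (x₁ • e + x₂ • z + x₃ • f) e = 0 := by rw [h0, polar_zero_left]
      have h5 : polar q (x₁ • e + x₂ • z + x₃ • f) z = 0 := by rw [h0, polar_zero_left]
      rw [polar_add_left, polar_add_left, polar_smul_l, polar_smul_l, polar_smul_l] at h3 h4 h5
      rw [hef, hzfz, hff] at h3
      rw [hee, hzez, hfe] at h4
      rw [hze, hzf, hzz] at h5
      refine ⟨by linear_combination h3, ?_, by linear_combination h4⟩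
      have h6 : x₂ * (2 * q z) = 0 := by linear_combination h5
      rcases mul_eq_zero.mp h6 with h7 | h7
      · exact h7
      · exact absurd h7 (mul_ne_zero h2 hqz)
    apply core_sem h2 hSadd hSsmul hindep hα0 hα hβ
    intro c
    refine ⟨-(c ^ 2 * q z), ?_, hw c, ?_⟩
    · rintro rfl
      simpa using hqz
    · obtain ⟨m, hm⟩ := hw (-c)
      have e1 : -((-c) ^ 2 * q z) = -(c ^ 2 * q z) := by ring
      rw [e1] at hm
      have e2 : e + (-c) • z + (-(c ^ 2 * q z)) • f = e - c • z + (-(c ^ 2 * q z)) • f := by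
        rw [neg_smul, sub_eq_add_neg]
      rw [e2] at hm
      exact ⟨m, hm⟩
  obtain ⟨y, hqy, hye, hyf⟩ := exists_aniso_perp h2 hQ hdim h
  obtain ⟨-, hτ, hβα⟩ := hz y hye hyf hqy
  subst hβα
  have hSsmul' : ∀ (c : F) x, S (c • x) = c • S x := by
    intro c x
    rw [hSsmul, hτ]
  have hSsub : ∀ x y, S (x - y) = S x - S y := by
    intro x y
    have e1 : x - y = x + (-1 : F) • y := by
      rw [neg_smul, one_smul, sub_eq_add_neg]
    rw [e1, hSadd, hSsmul', neg_smul, one_smul, sub_eq_add_neg]
  -- all of the orthogonal complement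
  have hW : ∀ z, polar q e z = 0 → polar q f z = 0 → S z = β • z := by
    intro z hze hzf
    by_cases hqz : q z = 0
    · by_cases hz0 : z = 0
      · rw [hz0, hS0, smul_zero]
      · obtain ⟨z', h1, h3, h4⟩ := exists_aniso_of_ne hQ h hz0 hze hzf hqz
        set B := polar q z z' with hB
        have hpc : polar q z' z = B := polar_comm q z' z
        have hval : ∀ t : F, q (z' + t • z) = q z' + t * B := by
          intro t
          rw [Q_add, Q_smul, hqz, polar_smul_r, hpc]
          ring
        set t₀ : F := -(q z' / B) with ht₀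
        have ht₀' : q z' + t₀ * B = 0 := by
          rw [ht₀]
          field_simp
          ring
        have hm1 : (-1 : F) ≠ 1 := by
          intro h'
          apply h2
          linear_combination -h'
        have hz₁ : q (z' + (t₀ + 1) • z) ≠ 0 := by
          rw [hval]
          have : q z' + (t₀ + 1) * B = B := by linear_combination ht₀'
          rw [this]
          exact h4
        have hz₂ : q (z' + (t₀ - 1) • z) ≠ 0 := by
          rw [hval]
          have : q z' + (t₀ - 1) * B = -B := by linear_combination ht₀'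
          rw [this]
          exact neg_ne_zero.mpr h4
        have hp : ∀ t : F, polar q e (z' + t • z) = 0 ∧ polar q f (z' + t • z) = 0 := by
          intro t
          constructor
          · rw [polar_add_right, polar_smul_r, hze, h1]
            ring
          · rw [polar_add_right, polar_smul_r, hzf, h3]
            ring
        have h5 := (hz _ (hp _).1 (hp _).2 hz₁).1
        have h6 := (hz _ (hp _).1 (hp _).2 hz₂).1
        have e1 : (2 : F) • z = (z' + (t₀ + 1) • z) - (z' + (t₀ - 1) • z) := by
          module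
        have h7 : S ((2 : F) • z) = β • ((2 : F) • z) := by
          rw [e1, hSsub, h5, h6]
          module
        rw [hSsmul', smul_comm] at h7
        exact smul_right_injective _ h2 h7
    · exact (hz z hze hzf hqz).1
  refine ⟨β, hα0, fun v => ?_⟩
  set a := polar q v f with ha
  set b := polar q v e with hb
  set w := v - a • e - b • f with hw
  have hv : v = a • e + b • f + w := by
    rw [hw]
    abel
  have hwe : polar q e w = 0 := by
    rw [hw, polar_sub_right, polar_sub_right, polar_smul_r, polar_smul_r, hee, hef, polar_comm q e v]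
    ring
  have hwf : polar q f w = 0 := by
    rw [hw, polar_sub_right, polar_sub_right, polar_smul_r, polar_smul_r, hfe, hff, polar_comm q f v]
    ring
  rw [hv, hSadd, hSadd, hSsmul', hSsmul', hα, hβ, hW w hwe hwf]
  module

/-! ### Siegel transformations -/

section siegel

/-- The nilpotent part of a Siegel transformation. -/
noncomputable def nilS (q : QuadraticForm F V) (e y x : V) : V :=
  polar q x e • y - (polar q x y + q y * polar q x e) • e

lemma siegelLin_eq_add (e y x : V) : siegelLin q e y x = x + nilS q e y x := by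
  rw [siegelLin_apply, nilS, add_sub_assoc]

lemma nilS_smul (e y : V) (c : F) (x : V) : nilS q e y (c • x) = c • nilS q e y x := by
  simp only [nilS, polar_smul_l]
  module

lemma nilS_self {e y : V} (he : q e = 0) (hy : polar q e y = 0) : nilS q e y e = 0 := by
  simp [nilS, polar_self_zero he, hy]

lemma nilS_nilS {e y : V} (he : q e = 0) (hy : polar q e y = 0) (x : V) :
    nilS q e y (nilS q e y x) = (-(polar q x e * (2 * q y))) • e := by
  have hye : polar q y e = 0 := by rw [polar_comm]; exact hy
  have hee := polar_self_zero he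
  have hyy := polar_self' q y
  have h1 : polar q (nilS q e y x) e = 0 := by
    rw [nilS, polar_sub_left, polar_smul_l, polar_smul_l, hye, hee]
    ring
  have h3 : polar q (nilS q e y x) y = polar q x e * (2 * q y) := by
    rw [nilS, polar_sub_left, polar_smul_l, polar_smul_l, hy, hyy]
    ring
  rw [nilS.eq_def q e y (nilS q e y x), h1, h3]
  module

lemma nilS3 {e y : V} (he : q e = 0) (hy : polar q e y = 0) (x : V) :
    nilS q e y (nilS q e y (nilS q e y x)) = 0 := by
  rw [nilS_nilS he hy (nilS q e y x)]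
  have h1 : polar q (nilS q e y x) e = 0 := by
    have hye : polar q y e = 0 := by rw [polar_comm]; exact hy
    have hee := polar_self_zero he
    rw [nilS, polar_sub_left, polar_smul_l, polar_smul_l, hye, hee]
    ring
  rw [h1]
  simp

/-- A semilinear map commuting with `nilS` fixes the centre. -/
lemma line_of_nilS {τ : F ≃+* F} {S : V → V} (hSsmul : ∀ (c : F) x, S (c • x) = τ c • S x) {e y f : V} (h2 : (2 : F) ≠ 0)
    (he : q e = 0) (he0 : S e ≠ 0) (hy : polar q e y = 0) (hqy : q y ≠ 0) (hfe : polar q f e = 1)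
    (hc : ∀ x, S (nilS q e y x) = nilS q e y (S x)) : ∃ a : F, a ≠ 0 ∧ S e = a • e := by
  apply line_of_comm hSsmul (M := fun x => nilS q e y (nilS q e y x)) ?_ (ψ := fun x => -(polar q x e * (2 * q y))) (x₀ := f)
    (nilS_nilS he hy) ?_ he0
  · intro x
    rw [hc, hc]
  · rw [hfe, one_mul]
    exact neg_ne_zero.mpr (mul_ne_zero h2 hqy)

variable [FiniteDimensional F V]

/-- Siegel transformations are commutators. -/
lemma siegel_mem_comm (h2 : (2 : F) ≠ 0) (hQ : Nondeg q) {e f y : V} (h : IsHypPair q e f) (hye : polar q e y = 0)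
    (hyf : polar q f y = 0) : siegel hQ h.Qe hye ∈ commutator (OG q) := by
  have hee := polar_self_zero h.Qe
  have hff := polar_self_zero h.Qf
  have hef := h.B
  have hfe : polar q f e = 1 := by rw [polar_comm]; exact hef
  -- the rotation by `-1`
  let L : V →ₗ[F] V :=
    { toFun := fun v => v - (2 * polar q v f) • e - (2 * polar q v e) • f
      map_add' := fun a b => by
        simp only [polar_add_left, mul_add, add_smul]
        abel
      map_smul' := fun c a => by
        simp only [polar_smul_left, smul_eq_mul, RingHom.id_apply]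
        module }
  have hL : ∀ v, L v = v - (2 * polar q v f) • e - (2 * polar q v e) • f := fun _ => rfl
  have hLQ : ∀ v, q (L v) = q v := by
    intro v
    rw [hL, Q_sub, Q_sub, Q_smul, Q_smul, h.Qe, h.Qf, polar_smul_r, polar_sub_left, polar_smul_r, polar_smul_l, polar_smul_r, hef, polar_comm q v e]
    ring
  let R : OG q := OG.ofLinear hQ L hLQ
  have hRv : ∀ v, (R : V ≃ₗ[F] V) v = L v := fun _ => rfl
  have hRe : (R : V ≃ₗ[F] V) e = (-1 : F) • e := by
    rw [hRv, hL, hee, hef]
    module
  set y' : V := ((2 : F)⁻¹ * (-1)) • y with hy'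
  have hy'e : polar q e y' = 0 := by
    rw [hy', polar_smul_r, hye, mul_zero]
  have hy'f : polar q f y' = 0 := by
    rw [hy', polar_smul_r, hyf, mul_zero]
  have hRy : (R : V ≃ₗ[F] V) y' = y' := by
    rw [hRv, hL, polar_comm q y' f, polar_comm q y' e, hy'e, hy'f]
    simp
  set s : OG q := siegel hQ h.Qe hy'e with hs
  have hs1 : IsSiegel s e y' := siegel_isSiegel hQ h.Qe hy'e
  have hconj := hs1.conj R
  rw [hRe, hRy] at hconj
  -- the conjugate is `s⁻¹`
  have hinv : IsSiegel (s⁻¹) e (-y') := by
    refine ⟨h.Qe, by rw [polar_neg_right, hy'e, neg_zero], fun x => ?_⟩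
    obtain ⟨a, rfl⟩ : ∃ a, x = (s : V ≃ₗ[F] V) a := ⟨(s : V ≃ₗ[F] V).symm x, by simp⟩
    have h3 : ((s⁻¹ : OG q) : V ≃ₗ[F] V) ((s : V ≃ₗ[F] V) a) = a := by
      rw [← LinearEquiv.mul_apply, ← Subgroup.coe_mul, inv_mul_cancel]
      rfl
    rw [h3, hs1.2.2, siegelLin_comp h.Qe (by rw [polar_neg_right, hy'e, neg_zero]) hy'e]
    rw [neg_add_cancel, siegelLin_zero]
  have hcomm : R * s * R⁻¹ * s⁻¹ = siegel hQ h.Qe hye := by
    have h3 := (show IsSiegel (R * s * R⁻¹ * s⁻¹) e (-y' + -y') from by
      have h4 : IsSiegel (R * s * R⁻¹) e (-y') := by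
        refine ⟨h.Qe, by rw [polar_neg_right, hy'e, neg_zero], fun x => ?_⟩
        rw [hconj.2.2 x, siegelLin_smul_left, neg_smul, one_smul]
      exact h4.mul hinv)
    apply Subtype.ext
    apply LinearEquiv.ext
    intro x
    rw [h3.2.2, siegel_apply]
    congr 1
    rw [hy', ← neg_smul, ← add_smul]
    have e3 : -((2 : F)⁻¹ * -1) + -((2 : F)⁻¹ * -1) = 1 := by
      field_simp
      ring
    rw [e3, one_smul]
  rw [← hcomm]
  rw [commutator_def]
  exact Subgroup.commutator_mem_commutator (Subgroup.mem_top _) (Subgroup.mem_top _)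

end siegel

end Cfsg.Agent.Lib.BalPSL
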