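import Cfsg.Agent.Lib.BalPSL.Core
import Cfsg.Agent.Lib.AutPSL.FieldCent
import Cfsg.Agent.Lib.AutPSL.Preds
import Cfsg.Agent.Lib.ClassicalCore
import Cfsg.Agent.Lib.ClassicalSL
import Cfsg.Agent.Lib.ClassicalSmall
import Cfsg.Agent.Lib.PSL2Solv

/-!
# Rational transvections: rigidity of automorphisms fixing them, the image of `SL_n` of a subfield
-/

set_option autoImplicit false

namespace Cfsg.Agent.Lib.BalPSL

open Matrix
open scoped MatrixGroups
open Cfsg.Agent.Lib.AutPSL Cfsg.Agent.Lib.Hilbert90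
open Cfsg.Agent.Lib.AutPOm (fixP mem_fixP conj_conj_aut eq_one_of_conj_eq_one)

variable {F : Type*} [Field F] {n : ℕ}

/-- The centre of a simple `PSL_n` is trivial. -/
lemma center_bot (hn : 2 ≤ n) (hK : IsSimpleGroup (ProjectiveSpecialLinearGroup (Fin n) F)) :
    Subgroup.center (ProjectiveSpecialLinearGroup (Fin n) F) = ⊥ := by
  rcases (inferInstance : (Subgroup.center (ProjectiveSpecialLinearGroup (Fin n) F)).Normal).eq_bot_or_eq_top with h | h
  · exact h
  · exfalso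
    set i₀ : Fin n := ⟨0, by omega⟩ with hi₀
    set i₁ : Fin n := ⟨1, by omega⟩ with hi₁
    have hne : i₀ ≠ i₁ := by
      intro h'
      have := congrArg Fin.val h'
      simp [hi₀, hi₁] at this
    have h1 : (ee i₁ : Fin n → F) ⬝ᵥ ee i₀ = 0 := ee_dot_ne hne.symm
    have h2 : (ee i₀ : Fin n → F) ⬝ᵥ ee i₁ = 0 := ee_dot_ne hne
    have hc : pt (ee i₀ : Fin n → F) (ee i₁) ∈ Subgroup.center (ProjectiveSpecialLinearGroup (Fin n) F) := by
      rw [h]
      trivial
    have hc2 := Subgroup.mem_center_iff.mp hc (pt (ee i₁ : Fin n → F) (ee i₀))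
    -- the two do not commute
    have h3 : MulAut.conj (QuotientGroup.mk (tv (ee i₁ : Fin n → F) (ee i₀)) : ProjectiveSpecialLinearGroup (Fin n) F)
        (pt (ee i₀ : Fin n → F) (ee i₁)) = pt (ee i₀ : Fin n → F) (ee i₁) := by
      rw [MulAut.conj_apply]
      change pt (ee i₁ : Fin n → F) (ee i₀) * _ * (pt (ee i₁ : Fin n → F) (ee i₀))⁻¹ = _
      rw [hc2]
      group
    rw [csAut_conj, csAut_pt _ _ h1] at h3
    have h4 : ((Matrix.SpecialLinearGroup.toGL (tv (ee i₁ : Fin n → F) (ee i₀)) : GL (Fin n) F) : Matrix (Fin n) (Fin n) F) = 1 + vecMulVec (ee i₁) (ee i₀) := by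
      rw [← tv_coe h2]
      rfl
    have h5 : vmap (RingEquiv.refl F) (ee i₀ : Fin n → F) = ee i₀ := vmap_ee _ _
    rw [h5, h4] at h3
    have h6 : (1 + vecMulVec (ee i₁ : Fin n → F) (ee i₀)) *ᵥ (ee i₀ : Fin n → F) = ee i₀ + ee i₁ := by
      rw [Matrix.add_mulVec, Matrix.one_mulVec, vecMulVec_mulVec]
      ext k
      simp [ee_dot_self]
    rw [h6] at h3
    set φ' : Fin n → F := vmap (RingEquiv.refl F) (ee i₁ : Fin n → F) ᵥ* ((Matrix.SpecialLinearGroup.toGL (tv (ee i₁ : Fin n → F) (ee i₀)) : GL (Fin n) F)⁻¹ : GL (Fin n) F).1 with hφ'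
    have h8 : φ' ⬝ᵥ ((ee i₀ + ee i₁ : Fin n → F)) = 0 := by
      have h9 : (ee i₀ + ee i₁ : Fin n → F) = ((Matrix.SpecialLinearGroup.toGL (tv (ee i₁ : Fin n → F) (ee i₀)) : GL (Fin n) F) : Matrix (Fin n) (Fin n) F) *ᵥ vmap (RingEquiv.refl F) (ee i₀ : Fin n → F) := by
        rw [h5, h4, h6]
      rw [h9, hφ', ← Matrix.dotProduct_mulVec, Matrix.mulVec_mulVec, gl_inv_mul, Matrix.one_mulVec, vmap_dot, h1, map_zero]
    have h7 := (par_of_pt_eq h1 h8 (ee_ne_zero i₀) (ee_ne_zero i₁) h3.symm).1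
    obtain ⟨a, ha, hae⟩ := h7
    have h10 := congrFun hae i₁
    simp only [Pi.add_apply, Pi.smul_apply, smul_eq_mul, ee_apply_same, ee_apply_ne hne.symm] at h10
    simp at h10

/-- A semilinear map with all rational lines as eigenspaces is a scalar. -/
lemma rigid_of_lines {F₀ : Type*} [Field F₀] (ι : F₀ →+* F) (hn : 2 ≤ n) (g : GL (Fin n) F) (τ : F ≃+* F)
    (hline : ∀ v : Fin n → F₀, v ≠ 0 → ∃ a : F, a ≠ 0 ∧ (g : Matrix (Fin n) (Fin n) F) *ᵥ vmap τ (ι ∘ v) = a • (ι ∘ v)) :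
    (∀ a, τ (ι a) = ι a) ∧ ∃ c : Fˣ, g = Matrix.GeneralLinearGroup.scalar (Fin n) c := by
  have hee : ∀ i : Fin n, (ι ∘ (ee i : Fin n → F₀)) = ee i := by
    intro i
    funext k
    by_cases hk : k = i
    · subst hk
      simp
    · simp [ee_apply_ne hk]
  have hdi : ∀ i : Fin n, ∃ d : F, d ≠ 0 ∧ (g : Matrix (Fin n) (Fin n) F) *ᵥ ee i = d • ee i := by
    intro i
    obtain ⟨a, ha, hae⟩ := hline _ (ee_ne_zero i)
    rw [hee, vmap_ee] at hae
    exact ⟨a, ha, hae⟩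
  choose d hd0 hd using hdi
  have hvij : ∀ (i j : Fin n), i ≠ j → ∀ a : F₀, τ (ι a) * d j = d i * ι a := by
    intro i j hij a
    have hv0 : (ee i + a • ee j : Fin n → F₀) ≠ 0 := by
      intro h0
      have := congrFun h0 i
      simp [ee_apply_same, ee_apply_ne hij] at this
    obtain ⟨l, hl, hle⟩ := hline _ hv0
    have e1 : ι ∘ (ee i + a • ee j : Fin n → F₀) = ee i + ι a • ee j := by
      funext k
      have h3 := congrFun (hee i) k
      have h4 := congrFun (hee j) k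
      simp only [Function.comp_apply, Pi.add_apply, Pi.smul_apply, smul_eq_mul, map_add, map_mul] at h3 h4 ⊢
      rw [h3, h4]
    rw [e1, vmap_add_ee, Matrix.mulVec_add, Matrix.mulVec_smul, hd, hd] at hle
    have h5 := congrFun hle i
    have h6 := congrFun hle j
    simp only [Pi.add_apply, Pi.smul_apply, smul_eq_mul, ee_apply_same, ee_apply_ne hij, ee_apply_ne hij.symm, mul_zero, add_zero, zero_add, mul_one] at h5 h6
    rw [← h5] at h6
    exact h6
  have hdeq : ∀ i j, d i = d j := by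
    intro i j
    by_cases hij : i = j
    · rw [hij]
    · have := hvij i j hij 1
      simp only [map_one, one_mul, mul_one] at this
      exact this.symm
  set i₀ : Fin n := ⟨0, by omega⟩ with hi₀
  set i₁ : Fin n := ⟨1, by omega⟩ with hi₁
  have hne : i₀ ≠ i₁ := by
    intro h'
    have := congrArg Fin.val h'
    simp [hi₀, hi₁] at this
  constructor
  · intro a
    have h1 := hvij i₀ i₁ hne a
    rw [hdeq i₁ i₀, mul_comm] at h1
    exact mul_left_cancel₀ (hd0 i₀) h1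
  · refine ⟨Units.mk0 (d i₀) (hd0 i₀), ?_⟩
    apply Units.ext
    rw [scalar_coe]
    ext i j
    have h1 := congrFun (hd j) i
    rw [Matrix.mulVec_single_one] at h1
    have h2 : (g : Matrix (Fin n) (Fin n) F) i j = d j * (ee j : Fin n → F) i := by
      simpa using h1
    rw [h2, hdeq j i₀]
    by_cases hij : i = j
    · subst hij
      simp
    · simp [hij, ee_apply_ne hij]

/-- Rigidity: a semilinear map which fixes the rational transvections is a scalar. -/
lemma rigid_rat {F₀ : Type*} [Field F₀] (ι : F₀ →+* F) (hn : 2 ≤ n) (g : GL (Fin n) F) (τ : F ≃+* F)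
    (h : ∀ v φ : Fin n → F₀, φ ⬝ᵥ v = 0 → csAut g τ (pt (ι ∘ v) (ι ∘ φ)) = pt (ι ∘ v) (ι ∘ φ)) :
    (∀ a, τ (ι a) = ι a) ∧ ∃ c : Fˣ, g = Matrix.GeneralLinearGroup.scalar (Fin n) c := by
  apply rigid_of_lines ι hn
  intro v hv
  obtain ⟨φ, hφ, h1⟩ := exists_perp1 hn v
  have h1' : φ ⬝ᵥ v = 0 := by rw [dotProduct_comm]; exact h1
  have hd : (ι ∘ φ) ⬝ᵥ (ι ∘ v) = 0 := by
    have : (ι ∘ φ) ⬝ᵥ (ι ∘ v) = ι (φ ⬝ᵥ v) := by
      simp [dotProduct, map_sum]
    rw [this, h1', map_zero]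
  have h2 := h v φ h1'
  rw [csAut_pt _ _ hd] at h2
  have h3 : (vmap τ (ι ∘ φ) ᵥ* ((g⁻¹ : GL (Fin n) F) : Matrix (Fin n) (Fin n) F)) ⬝ᵥ ((g : Matrix (Fin n) (Fin n) F) *ᵥ vmap τ (ι ∘ v)) = 0 := by
    rw [← Matrix.dotProduct_mulVec, Matrix.mulVec_mulVec, gl_inv_mul, Matrix.one_mulVec, vmap_dot, hd, map_zero]
  have hinj : Function.Injective (fun w : Fin n → F₀ => ι ∘ w) := fun x y hxy => by
    funext i
    exact ι.injective (congrFun hxy i)
  have hv' : ι ∘ v ≠ 0 := fun h0 => hv (hinj (by change ι ∘ v = ι ∘ (0 : Fin n → F₀); rw [h0]; funext i; simp))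
  have hφ' : ι ∘ φ ≠ 0 := fun h0 => hφ (hinj (by change ι ∘ φ = ι ∘ (0 : Fin n → F₀); rw [h0]; funext i; simp))
  obtain ⟨a, ha, hae⟩ := (par_of_pt_eq hd h3 hv' hφ' h2.symm).1
  exact ⟨a, ha, hae⟩

/-- An automorphism with a non-trivial graph part moves some transvections. -/
lemma no_it_rat (hn3 : 3 ≤ n) (g : GL (Fin n) F) (τ : F ≃+* F)
    (h : ∀ (i j : Fin n), i ≠ j → (csAut g τ * itAut : MulAut (ProjectiveSpecialLinearGroup (Fin n) F)) (pt (ee i : Fin n → F) (ee j)) = pt (ee i : Fin n → F) (ee j)) :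
    False := by
  set i₀ : Fin n := ⟨0, by omega⟩ with hi₀
  set i₁ : Fin n := ⟨1, by omega⟩ with hi₁
  set i₂ : Fin n := ⟨2, by omega⟩ with hi₂
  have h01 : i₀ ≠ i₁ := by
    intro h'
    have := congrArg Fin.val h'
    simp [hi₀, hi₁] at this
  have h02 : i₀ ≠ i₂ := by
    intro h'
    have := congrArg Fin.val h'
    simp [hi₀, hi₂] at this
  have h12 : i₁ ≠ i₂ := by
    intro h'
    have := congrArg Fin.val h'
    simp [hi₁, hi₂] at this
  have key : ∀ j, i₀ ≠ j → ∃ a : F, a ≠ 0 ∧ (g : Matrix (Fin n) (Fin n) F) *ᵥ ee j = a • ee i₀ := by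
    intro j hj
    have hd : (ee j : Fin n → F) ⬝ᵥ ee i₀ = 0 := ee_dot_ne hj.symm
    have hd' : (ee i₀ : Fin n → F) ⬝ᵥ (-ee j : Fin n → F) = 0 := by
      rw [dotProduct_neg, ee_dot_ne hj, neg_zero]
    have h1 := h i₀ j hj
    rw [MulAut.mul_apply, itAut_pt hd, csAut_pt _ _ hd'] at h1
    have h3 : (vmap τ (ee i₀ : Fin n → F) ᵥ* ((g⁻¹ : GL (Fin n) F) : Matrix (Fin n) (Fin n) F)) ⬝ᵥ ((g : Matrix (Fin n) (Fin n) F) *ᵥ vmap τ (-ee j)) = 0 := by
      rw [← Matrix.dotProduct_mulVec, Matrix.mulVec_mulVec, gl_inv_mul, Matrix.one_mulVec, vmap_dot, hd', map_zero]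
    obtain ⟨a, ha, hae⟩ := (par_of_pt_eq hd h3 (ee_ne_zero i₀) (ee_ne_zero j) h1.symm).1
    have h4 : vmap τ (-ee j : Fin n → F) = -ee j := by
      funext k
      simp only [vmap_apply, Pi.neg_apply, map_neg]
      have := congrFun (vmap_ee τ j) k
      simp only [vmap_apply] at this
      rw [this]
    rw [h4, Matrix.mulVec_neg] at hae
    exact ⟨-a, neg_ne_zero.mpr ha, by rw [neg_smul, ← hae, neg_neg]⟩
  obtain ⟨a, ha, hae⟩ := key i₁ h01
  obtain ⟨b, hb, hbe⟩ := key i₂ h02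
  have h5 : (b • ee i₁ - a • ee i₂ : Fin n → F) ≠ 0 := by
    intro h0
    have := congrFun h0 i₁
    simp [ee_apply_ne h12] at this
    exact hb this
  apply gl_mulVec_ne_zero g h5
  rw [Matrix.mulVec_sub, Matrix.mulVec_smul, Matrix.mulVec_smul, hae, hbe, smul_smul, smul_smul, mul_comm, sub_self]

/-! ### The map from `SL_n` of a subfield -/

section subfield

variable {F₀ : Type*} [Field F₀] (ι : F₀ →+* F)

/-- The map from `SL_n(F₀)` to `PSL_n(F)`. -/
noncomputable def wR : SpecialLinearGroup (Fin n) F₀ →* ProjectiveSpecialLinearGroup (Fin n) F :=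
  (QuotientGroup.mk' _).comp (Matrix.SpecialLinearGroup.map ι)

lemma wR_apply (s : SpecialLinearGroup (Fin n) F₀) :
    wR ι s = QuotientGroup.mk (Matrix.SpecialLinearGroup.map ι s) := rfl

lemma map_dot (φ v : Fin n → F₀) : (ι ∘ φ) ⬝ᵥ (ι ∘ v) = ι (φ ⬝ᵥ v) := by
  simp [dotProduct, map_sum]

lemma wR_tv {v φ : Fin n → F₀} (h : φ ⬝ᵥ v = 0) : wR ι (tv v φ) = pt (ι ∘ v) (ι ∘ φ) := by
  rw [wR_apply, pt]
  congr 1
  apply sl_ext
  rw [tv_coe (by rw [map_dot, h, map_zero])]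
  change ((tv v φ : SpecialLinearGroup (Fin n) F₀) : Matrix (Fin n) (Fin n) F₀).map ι = _
  rw [tv_coe h]
  ext i j
  by_cases hij : i = j
  · subst hij
    simp [vecMulVec_apply]
  · simp [vecMulVec_apply, Matrix.one_apply_ne hij]

lemma wR_ker (hn : 1 ≤ n) : (wR (n := n) ι).ker = Subgroup.center (SpecialLinearGroup (Fin n) F₀) := by
  ext s
  rw [MonoidHom.mem_ker, wR_apply, mk_eq_one_iff, Matrix.SpecialLinearGroup.mem_center_iff, Fintype.card_fin]
  constructor
  · rintro ⟨c, hc⟩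
    have hM : ∀ i j, ι ((s : Matrix (Fin n) (Fin n) F₀) i j) = c • (1 : Matrix (Fin n) (Fin n) F) i j := by
      intro i j
      have := congrFun (congrFun hc i) j
      exact this
    have hoff : ∀ i j, i ≠ j → (s : Matrix (Fin n) (Fin n) F₀) i j = 0 := by
      intro i j hij
      apply ι.injective
      rw [hM, map_zero, Matrix.one_apply_ne hij, smul_zero]
    have hd : ∀ i j, (s : Matrix (Fin n) (Fin n) F₀) i i = (s : Matrix (Fin n) (Fin n) F₀) j j := by
      intro i j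
      apply ι.injective
      rw [hM, hM, Matrix.one_apply_eq, Matrix.one_apply_eq]
    set i₀ : Fin n := ⟨0, by omega⟩ with hi₀
    have hs : scalar (Fin n) ((s : Matrix (Fin n) (Fin n) F₀) i₀ i₀) = (s : Matrix (Fin n) (Fin n) F₀) := by
      ext i j
      by_cases hij : i = j
      · subst hij
        simp [hd i i₀]
      · simp [hoff i j hij, hij]
    refine ⟨_, ?_, hs⟩
    have h1 := s.2
    rw [← hs] at h1
    simpa using h1
  · rintro ⟨r, -, hr⟩
    refine ⟨ι r, ?_⟩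
    change ((s : Matrix (Fin n) (Fin n) F₀)).map ι = _
    rw [← hr]
    ext i j
    by_cases hij : i = j
    · subst hij
      simp
    · simp [hij]

/-- The image of `SL_n(F₀)` is `PSL_n(F₀)`. -/
lemma wR_range_simple (hn : 1 ≤ n) (hs : IsSimpleGroup (ProjectiveSpecialLinearGroup (Fin n) F₀)) :
    IsSimpleGroup (wR (n := n) ι).range :=
  (rangeEquiv (wR (n := n) ι) (wR_ker ι hn)).isSimpleGroup (H := ProjectiveSpecialLinearGroup (Fin n) F₀)

end subfield

/-- Lifting from the subfield of fixed points. -/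
lemma exists_lift_fixed (σ : F ≃+* F) (s : SpecialLinearGroup (Fin n) F)
    (h : ∀ i j, σ ((s : Matrix (Fin n) (Fin n) F) i j) = (s : Matrix (Fin n) (Fin n) F) i j) :
    ∃ t : SpecialLinearGroup (Fin n) (fixedF σ), Matrix.SpecialLinearGroup.map (fixedF σ).subtype t = s := by
  let M : Matrix (Fin n) (Fin n) (fixedF σ) := fun i j => ⟨(s : Matrix (Fin n) (Fin n) F) i j, h i j⟩
  have hM : M.map (fixedF σ).subtype = (s : Matrix (Fin n) (Fin n) F) := by
    ext i j
    rfl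
  have hdet : M.det = 1 := by
    apply (fixedF σ).subtype.injective
    rw [RingHom.map_det]
    change (M.map (fixedF σ).subtype).det = _
    rw [hM, s.2, map_one]
  refine ⟨⟨M, hdet⟩, ?_⟩
  apply sl_ext
  exact hM

end Cfsg.Agent.Lib.BalPSL
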