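import Cfsg.Agent.Lib.BalPSL.Field
import Cfsg.Agent.Lib.AutPSL.GramForms

/-!
# Graph type automorphisms: the abstract argument; rigidity of semilinear maps
-/

set_option autoImplicit false

namespace Cfsg.Agent.Lib.BalPSL

open Matrix
open scoped MatrixGroups
open Cfsg.Agent.Lib.AutPSL Cfsg.Agent.Lib.Hilbert90
open Cfsg.Agent.Lib.AutPOm (fixP mem_fixP conj_conj_aut eq_one_of_conj_eq_one)

variable {F : Type*} [Field F] {n : ℕ}

/-- An element whose inner automorphism commutes with `x` is fixed by `x`. -/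
lemma fix_of_commute {K : Type*} [Group K] (hcent : Subgroup.center K = ⊥) {x : MulAut K} {k : K}
    (h : Commute (MulAut.conj k) x) : x k = k := by
  have h1 := conj_conj_aut x k
  have h2 : x * MulAut.conj k * x⁻¹ = MulAut.conj k := by
    rw [← h.eq]
    group
  rw [h2] at h1
  have h3 : MulAut.conj (x k * k⁻¹) = 1 := by
    rw [map_mul, map_inv, ← h1]
    group
  exact mul_inv_eq_one.mp (eq_one_of_conj_eq_one hcent h3)

/-- An element fixed by `x` has inner automorphism commuting with `x`. -/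
lemma commute_of_fix {K : Type*} [Group K] {x : MulAut K} {k : K} (h : x k = k) : Commute (MulAut.conj k) x := by
  have h1 := conj_conj_aut x k
  rw [h] at h1
  change MulAut.conj k * x = x * MulAut.conj k
  conv_lhs => rw [← h1]
  group

/-- The kernel of a map with central kernel whose image has trivial centraliser. -/
lemma ker_eq_center {K G : Type*} [Group K] [Group G] (w : G →* K) (h1 : w.ker ≤ Subgroup.center G)
    (hr : ∀ k : K, (∀ e ∈ w.range, MulAut.conj k e = e) → k = 1) : w.ker = Subgroup.center G := by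
  apply le_antisymm h1
  intro s hs
  rw [MonoidHom.mem_ker]
  apply hr
  rintro _ ⟨t, rfl⟩
  rw [MulAut.conj_apply, ← map_inv, ← map_mul, ← map_mul]
  congr 1
  rw [← Subgroup.mem_center_iff.mp hs t]
  group

/-- The abstract statement for automorphisms of graph type. -/
theorem graph_core [Fintype F] {r : ℕ} (hr : r.Prime) [CharP F r] (hn3 : 3 ≤ n)
    (hcent : Subgroup.center (ProjectiveSpecialLinearGroup (Fin n) F) = ⊥)
    (x : MulAut (ProjectiveSpecialLinearGroup (Fin n) F))
    (hxit : ∃ (g : GL (Fin n) F) (τ : F ≃+* F), x = csAut g τ * itAut) (hx2 : x ^ 2 = 1)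
    (E : Subgroup (ProjectiveSpecialLinearGroup (Fin n) F))
    (hEL : E ≤ fixP x) (hEnorm : ∀ k ∈ fixP x, ∀ e ∈ E, k * e * k⁻¹ ∈ E)
    (hNo : NoOdd E) (hinv : ∃ e ∈ E, orderOf e = 2)
    (hrig : ∀ (g : GL (Fin n) F) (τ : F ≃+* F), (∀ e ∈ E, csAut g τ e = e) → csAut g τ = 1) :
    ¬ Nat.Coprime 2 (Nat.card (fixP x)) ∧
    ∀ A : Subgroup (MulAut (ProjectiveSpecialLinearGroup (Fin n) F)),
      (∀ k : ProjectiveSpecialLinearGroup (Fin n) F, MulAut.conj k ∈ A) →
      ((∃ N : Subgroup ↥(A ⊓ Subgroup.centralizer {x}), N.Normal ∧ (Nat.card N).Coprime 2 ∧ N ≠ ⊥) ↔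
        Nat.Coprime 2 (Nat.card (fixP x))) := by
  classical
  obtain ⟨f', hr', hF⟩ := FiniteField.card F r
  have hf : 1 ≤ (f' : ℕ) := f'.pos
  haveI : Fact (Nat.Prime 2) := ⟨Nat.prime_two⟩
  obtain ⟨e₀, he₀, he₀o⟩ := hinv
  constructor
  · intro hc
    rw [Nat.Prime.coprime_iff_not_dvd Nat.prime_two] at hc
    apply hc
    have h1 : orderOf (⟨e₀, hEL he₀⟩ : fixP x) ∣ Nat.card (fixP x) := orderOf_dvd_natCard _
    rwa [Subgroup.orderOf_mk, he₀o] at h1
  · intro A hinn
    apply bal_weak hcent x A hinn E hEL hEnorm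
    · intro _ M _ hMn hMo
      exact hEs_of_noOdd E hNo M (fun t ht a ha => hMn t (hEL ht) a ha) hMo
    · intro h0
      rw [h0, Subgroup.mem_bot] at he₀
      rw [he₀, orderOf_one] at he₀o
      omega
    · intro y hy
      rcases aut_ge3 hr hf hF hn3 y with ⟨g, τ, h⟩ | ⟨g, τ, h⟩
      · rw [h] at hy ⊢
        rw [hrig g τ hy, one_pow]
      · obtain ⟨g₀, τ₀, hg₀⟩ := hxit
        have h1 : y * x = csAut g τ * csAut (invT g₀) τ₀ := by
          rw [h, hg₀]
          have e1 : csAut g τ * itAut * (csAut g₀ τ₀ * itAut) = csAut g τ * (itAut * csAut g₀ τ₀) * itAut := by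
            simp only [mul_assoc]
          rw [e1, itAut_mul_csAut]
          have e2 : csAut g τ * (csAut (invT g₀) τ₀ * itAut) * itAut = csAut g τ * csAut (invT g₀) τ₀ * (itAut * itAut) := by
            simp only [mul_assoc]
          rw [e2, itAut_mul_self, mul_one]
        rw [csAut_mul] at h1
        have h2 : y * x = 1 := by
          rw [h1]
          apply hrig
          intro e he
          have hxe : x e = e := hEL he
          rw [← h1, MulAut.mul_apply, hxe, hy e he]
        have h3 : y = x⁻¹ := eq_inv_of_mul_eq_one_left h2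
        rw [h3, inv_pow, hx2, inv_one]

/-! ### Abstract semilinear maps -/

section semi

variable {V : Type*} [AddCommGroup V] [Module F V]

/-- A semilinear map commuting up to a scalar with a unipotent map commutes with it. -/
lemma c_eq_one {S N : V → V} (hSadd : ∀ x y, S (x + y) = S x + S y) (hNsmul : ∀ (c : F) x, N (c • x) = c • N x)
    (hN3 : ∀ x, N (N (N x)) = 0) {e : V} (he : N e = 0) (hSe : S e ≠ 0) {c : F}
    (hc : ∀ x, S (x + N x) = c • (S x + N (S x))) : c = 1 := by
  have h1 := hc e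
  rw [he, add_zero] at h1
  set w := S e with hw
  have hc0 : c ≠ 0 := by
    rintro rfl
    rw [zero_smul] at h1
    exact hSe h1
  have h2 : N w = (c⁻¹ - 1) • w := by
    have h3 : c⁻¹ • w = w + N w := by
      conv_lhs => rw [h1]
      rw [smul_smul, inv_mul_cancel₀ hc0, one_smul]
    rw [sub_smul, one_smul, h3]
    abel
  have h3 : N (N (N w)) = (c⁻¹ - 1) ^ 3 • w := by
    rw [h2, hNsmul, hNsmul, h2, hNsmul, h2, smul_smul, smul_smul]
    congr 1
    ring
  rw [hN3] at h3
  have h4 : (c⁻¹ - 1) ^ 3 = 0 := by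
    rcases smul_eq_zero.mp h3.symm with h5 | h5
    · exact h5
    · exact absurd h5 hSe
  have h5 : c⁻¹ - 1 = 0 := pow_eq_zero_iff (by norm_num) |>.mp h4
  have h6 : c⁻¹ = 1 := sub_eq_zero.mp h5
  rw [← _root_.inv_inj, h6, inv_one]

/-- The line of a rank one operator commuting with a semilinear map. -/
lemma line_of_comm {τ : F ≃+* F} {S M : V → V} (hSsmul : ∀ (c : F) x, S (c • x) = τ c • S x)
    (hM : ∀ x, S (M x) = M (S x)) {ψ : V → F} {e : V} (hMψ : ∀ x, M x = ψ x • e) {x₀ : V} (hx₀ : ψ x₀ ≠ 0)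
    (hSe : S e ≠ 0) : ∃ a : F, a ≠ 0 ∧ S e = a • e := by
  have h1 := hM x₀
  rw [hMψ, hSsmul, hMψ] at h1
  have hτ : τ (ψ x₀) ≠ 0 := (map_ne_zero τ).mpr hx₀
  have h2 : S e = ((τ (ψ x₀))⁻¹ * ψ (S x₀)) • e := by
    rw [mul_smul, ← h1, smul_smul, inv_mul_cancel₀ hτ, one_smul]
  refine ⟨_, ?_, h2⟩
  intro h0
  rw [h0, zero_smul] at h2
  exact hSe h2

/-- The key computation on a semilinear map. -/
lemma core_sem (h2 : (2 : F) ≠ 0) {τ : F ≃+* F} {S : V → V} (hSadd : ∀ x y, S (x + y) = S x + S y)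
    (hSsmul : ∀ (c : F) x, S (c • x) = τ c • S x) {e z f : V}
    (hind : ∀ x₁ x₂ x₃ : F, x₁ • e + x₂ • z + x₃ • f = 0 → x₁ = 0 ∧ x₂ = 0 ∧ x₃ = 0)
    {α β : F} (hα0 : α ≠ 0) (hα : S e = α • e) (hβ : S f = β • f)
    (h : ∀ c : F, ∃ a : F, (c = 1 → a ≠ 0) ∧ (∃ l : F, S (e + c • z + a • f) = l • (e + c • z + a • f)) ∧
      (∃ m : F, S (e - c • z + a • f) = m • (e - c • z + a • f))) :
    S z = α • z ∧ (∀ c, τ c = c) ∧ β = α := by
  have hneg : ∀ x, S (-x) = - S x := by
    intro x
    have := hSsmul (-1) x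
    rwa [neg_smul, one_smul, map_neg, map_one, neg_smul, one_smul] at this
  have key : ∀ c : F, c ≠ 0 → ∀ a : F, (∃ l : F, S (e + c • z + a • f) = l • (e + c • z + a • f)) →
      (∃ m : F, S (e - c • z + a • f) = m • (e - c • z + a • f)) →
      τ c • S z = (α * c) • z ∧ τ a * β = α * a := by
    intro c hc a ⟨l, hl⟩ ⟨m, hm⟩
    rw [hSadd, hSadd, hSsmul, hSsmul, hα, hβ] at hl
    have e1 : e - c • z + a • f = e + (-c) • z + a • f := by
      rw [neg_smul, sub_eq_add_neg]
    rw [e1] at hm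
    rw [hSadd, hSadd, hSsmul, hSsmul, hα, hβ, map_neg, neg_smul] at hm
    have hsum : (2 * α - (l + m)) • e + (-((l - m) * c)) • z + (2 * (τ a * β) - (l + m) * a) • f = 0 := by
      have h3 : (α • e + τ c • S z + τ a • β • f) + (α • e + -(τ c • S z) + τ a • β • f) =
          l • (e + c • z + a • f) + m • (e + (-c) • z + a • f) := by
        rw [← hl, ← hm]
      have h4 : (2 * α - (l + m)) • e + (-((l - m) * c)) • z + (2 * (τ a * β) - (l + m) * a) • f =
          ((α • e + τ c • S z + τ a • β • f) + (α • e + -(τ c • S z) + τ a • β • f)) -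
            (l • (e + c • z + a • f) + m • (e + (-c) • z + a • f)) := by
        module
      rw [h4, h3, sub_self]
    obtain ⟨h5, h6, h7⟩ := hind _ _ _ hsum
    have hlm : l = m := by
      have : (l - m) * c = 0 := by linear_combination -h6
      rcases mul_eq_zero.mp this with h8 | h8
      · exact sub_eq_zero.mp h8
      · exact absurd h8 hc
    subst hlm
    have hl2 : l = α := by
      have : 2 * (α - l) = 0 := by linear_combination h5
      have h8 := (mul_eq_zero.mp this).resolve_left h2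
      exact (sub_eq_zero.mp h8).symm
    subst hl2
    have h9 : τ a * β = l * a := by
      have : 2 * (τ a * β - l * a) = 0 := by linear_combination h7
      have h8 := (mul_eq_zero.mp this).resolve_left h2
      exact sub_eq_zero.mp h8
    refine ⟨?_, h9⟩
    have h10 : τ c • S z = l • (e + c • z + a • f) - l • e - (τ a • β • f) := by
      rw [← hl]
      abel
    rw [h10, smul_smul, h9]
    module
  obtain ⟨a₁, ha₁0, h₁, h₁'⟩ := h 1
  obtain ⟨h1z, h1a⟩ := key 1 one_ne_zero a₁ h₁ h₁'
  have hSz : S z = α • z := by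
    rw [map_one, one_smul, mul_one] at h1z
    exact h1z
  have hz0 : z ≠ 0 := by
    rintro rfl
    have := hind 0 1 0 (by simp)
    exact one_ne_zero this.2.1
  have hτ : ∀ c, τ c = c := by
    intro c
    by_cases hc : c = 0
    · rw [hc, map_zero]
    obtain ⟨a, -, h₂, h₂'⟩ := h c
    have h3 := (key c hc a h₂ h₂').1
    rw [hSz, smul_smul] at h3
    have h4 : (τ c * α - α * c) • z = 0 := by
      rw [sub_smul, h3, sub_self]
    rcases smul_eq_zero.mp h4 with h5 | h5
    · have : α * (τ c - c) = 0 := by linear_combination h5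
      have h6 := (mul_eq_zero.mp this).resolve_left hα0
      exact sub_eq_zero.mp h6
    · exact absurd h5 hz0
  refine ⟨hSz, hτ, ?_⟩
  rw [hτ] at h1a
  have h5 := ha₁0 rfl
  have : a₁ * (β - α) = 0 := by linear_combination h1a
  have h6 := (mul_eq_zero.mp this).resolve_left h5
  exact sub_eq_zero.mp h6

end semi

end Cfsg.Agent.Lib.BalPSL
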