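import Cfsg.Agent.Lib.BalPSL.Form
import Cfsg.Agent.Lib.SpSimple
import Cfsg.Agent.Lib.SpPerfect
import Cfsg.Agent.Lib.SpCenter

/-!
# Graph automorphisms of `PSL_{2m}(F)` with symplectic centraliser
-/

set_option autoImplicit false

namespace Cfsg.Agent.Lib.BalPSL

open Matrix
open scoped MatrixGroups
open Cfsg.Agent.Lib.AutPSL Cfsg.Agent.Lib.Hilbert90 Cfsg.Agent.Lib.SpBasic
open Cfsg.Agent.Lib.AutPOm (fixP mem_fixP conj_conj_aut eq_one_of_conj_eq_one)

variable {F : Type*} [Field F] {n m : ℕ}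

/-- The inclusion of `Sp` in `GL`. -/
noncomputable def spG (m : ℕ) (F : Type*) [Field F] : Matrix.symplecticGroup (Fin m) F →* GL (Fin m ⊕ Fin m) F :=
  (Submonoid.subtype (Matrix.symplecticGroup (Fin m) F)).toHomUnits

lemma spG_coe (g : Matrix.symplecticGroup (Fin m) F) : ((spG m F g : GL (Fin m ⊕ Fin m) F) : Matrix (Fin m ⊕ Fin m) (Fin m ⊕ Fin m) F) = g.1 := rfl

lemma spG_injective : Function.Injective (spG m F) := by
  intro a b h
  apply Subtype.ext
  exact congrArg Units.val h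

lemma hom_trivial_of_perfect {G A : Type*} [Group G] [CommGroup A] (f : G →* A) (h : commutator G = ⊤) (g : G) : f g = 1 := by
  have h4 : commutator G ≤ f.ker := by
    rw [commutator_def, Subgroup.commutator_le]
    intro a _ b _
    rw [MonoidHom.mem_ker, map_commutatorElement, commutatorElement_eq_one_iff_mul_comm]
    exact mul_comm _ _
  have h5 : g ∈ commutator G := by
    rw [h]
    trivial
  exact h4 h5

lemma spG_det [Fintype F] (hm : 2 ≤ m) (h3 : 3 ≤ Fintype.card F) (g : Matrix.symplecticGroup (Fin m) F) :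
    ((spG m F g : GL (Fin m ⊕ Fin m) F) : Matrix (Fin m ⊕ Fin m) (Fin m ⊕ Fin m) F).det = 1 := by
  have hp := Cfsg.Agent.Lib.SpPerfect.commutator_Sp_eq_top (F := F) m (by
    rcases hm.eq_or_lt with rfl | h
    · exact Or.inr (Or.inl ⟨rfl, h3⟩)
    · exact Or.inl h)
  have h1 := hom_trivial_of_perfect ((Matrix.GeneralLinearGroup.det).comp (spG m F)) hp g
  have h2 := congrArg Units.val h1
  rwa [MonoidHom.comp_apply, Matrix.GeneralLinearGroup.val_det_apply] at h2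

lemma spG_iso (g : Matrix.symplecticGroup (Fin m) F) :
    ((spG m F g : GL (Fin m ⊕ Fin m) F) : Matrix (Fin m ⊕ Fin m) (Fin m ⊕ Fin m) F)ᵀ *
      ((jG F m : GL (Fin m ⊕ Fin m) F) : Matrix (Fin m ⊕ Fin m) (Fin m ⊕ Fin m) F) *
      ((spG m F g : GL (Fin m ⊕ Fin m) F) : Matrix (Fin m ⊕ Fin m) (Fin m ⊕ Fin m) F) =
      ((jG F m : GL (Fin m ⊕ Fin m) F) : Matrix (Fin m ⊕ Fin m) (Fin m ⊕ Fin m) F) := by
  exact (SymplecticGroup.mem_iff' (A := g.1)).mp g.2

lemma spG_norm (u : GL (Fin m ⊕ Fin m) F) (c : Fˣ)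
    (hc : (u : Matrix (Fin m ⊕ Fin m) (Fin m ⊕ Fin m) F)ᵀ * ((jG F m : GL (Fin m ⊕ Fin m) F) : Matrix (Fin m ⊕ Fin m) (Fin m ⊕ Fin m) F) * (u : Matrix (Fin m ⊕ Fin m) (Fin m ⊕ Fin m) F) = (c : F) • ((jG F m : GL (Fin m ⊕ Fin m) F) : Matrix (Fin m ⊕ Fin m) (Fin m ⊕ Fin m) F))
    (g : Matrix.symplecticGroup (Fin m) F) : ∃ g', spG m F g' = u * spG m F g * u⁻¹ := by
  set U := (u : Matrix (Fin m ⊕ Fin m) (Fin m ⊕ Fin m) F) with hU
  set V := ((u⁻¹ : GL (Fin m ⊕ Fin m) F) : Matrix (Fin m ⊕ Fin m) (Fin m ⊕ Fin m) F) with hV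
  set J₀ := ((jG F m : GL (Fin m ⊕ Fin m) F) : Matrix (Fin m ⊕ Fin m) (Fin m ⊕ Fin m) F) with hJ₀
  have hUV : U * V = 1 := gl_mi u
  have hT : Vᵀ * Uᵀ = 1 := by rw [← Matrix.transpose_mul, hUV, Matrix.transpose_one]
  have h1 : (c : F) • (Vᵀ * J₀ * V) = J₀ := by
    calc (c : F) • (Vᵀ * J₀ * V) = Vᵀ * ((c : F) • J₀) * V := by
          rw [Matrix.mul_smul, Matrix.smul_mul]
      _ = Vᵀ * (Uᵀ * J₀ * U) * V := by rw [hc]
      _ = (Vᵀ * Uᵀ) * J₀ * (U * V) := by simp only [Matrix.mul_assoc]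
      _ = J₀ := by rw [hT, hUV, Matrix.one_mul, Matrix.mul_one]
  have hA := spG_iso g
  set B := U * g.1 * V with hB
  have hBm : B ∈ Matrix.symplecticGroup (Fin m) F := by
    rw [SymplecticGroup.mem_iff']
    change Bᵀ * J₀ * B = J₀
    have e1 : Bᵀ = Vᵀ * (g.1)ᵀ * Uᵀ := by
      rw [hB, Matrix.transpose_mul, Matrix.transpose_mul, Matrix.mul_assoc]
    rw [e1]
    calc Vᵀ * (g.1)ᵀ * Uᵀ * J₀ * B = Vᵀ * (g.1)ᵀ * (Uᵀ * J₀ * U) * g.1 * V := by
          rw [hB]
          simp only [Matrix.mul_assoc]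
      _ = (c : F) • (Vᵀ * ((g.1)ᵀ * J₀ * g.1) * V) := by
          rw [hc, Matrix.mul_smul, Matrix.smul_mul, Matrix.smul_mul]
          simp only [Matrix.mul_assoc]
      _ = (c : F) • (Vᵀ * J₀ * V) := by
          rw [show (g.1)ᵀ * J₀ * g.1 = J₀ from hA]
      _ = J₀ := h1
  refine ⟨⟨B, hBm⟩, ?_⟩
  apply Units.ext
  rfl

/-- The involution of `PSp`. -/
lemma exists_invol_Sp (hm : 2 ≤ m) (h2 : (2 : F) ≠ 0) : ∃ t : Cfsg.PSp m F, orderOf t = 2 := by
  classical
  haveI : Nonempty (Fin m) := ⟨⟨0, by omega⟩⟩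
  set i₀ : Fin m := ⟨0, by omega⟩ with hi₀
  set i₁ : Fin m := ⟨1, by omega⟩ with hi₁
  have h01 : i₀ ≠ i₁ := by
    intro h'
    have := congrArg Fin.val h'
    simp [hi₀, hi₁] at this
  have hm1 : (-1 : F) ≠ 1 := by
    intro h
    apply h2
    linear_combination -h
  set D : Matrix (Fin m) (Fin m) F := Matrix.diagonal (fun i => if i = i₀ then -1 else 1) with hD
  have hDD : D * D = 1 := by
    rw [hD, Matrix.diagonal_mul_diagonal, ← Matrix.diagonal_one]
    congr 1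
    funext i
    by_cases h : i = i₀ <;> simp [h]
  have hDT : Dᵀ = D := by
    rw [hD, Matrix.diagonal_transpose]
  set B : Matrix (Fin m ⊕ Fin m) (Fin m ⊕ Fin m) F := Matrix.fromBlocks D 0 0 D with hB
  have hBm : B ∈ Matrix.symplecticGroup (Fin m) F := by
    rw [SymplecticGroup.mem_iff, hB, Matrix.J, Matrix.fromBlocks_transpose, hDT, Matrix.fromBlocks_multiply, Matrix.fromBlocks_multiply]
    simp [hDD, Matrix.transpose_zero]
  haveI : Fact (Nat.Prime 2) := ⟨Nat.prime_two⟩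
  refine ⟨QuotientGroup.mk ⟨B, hBm⟩, ?_⟩
  apply orderOf_eq_prime
  · rw [← QuotientGroup.mk_pow]
    have : (⟨B, hBm⟩ : Matrix.symplecticGroup (Fin m) F) ^ 2 = 1 := by
      apply Subtype.ext
      change B ^ 2 = 1
      rw [pow_two, hB, Matrix.fromBlocks_multiply]
      simp [hDD]
    rw [this]
    rfl
  · intro h
    have h3 := (QuotientGroup.eq_one_iff _).mp h
    rcases Cfsg.Agent.Lib.SpCenter.mem_center_iff.mp h3 with h4 | h4
    · have h5 := congrArg (fun g : Matrix.symplecticGroup (Fin m) F => g.1 (Sum.inl i₀) (Sum.inl i₀)) h4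
      have h6 : B (Sum.inl i₀) (Sum.inl i₀) = 1 := by
        simpa using h5
      rw [hB, Matrix.fromBlocks_apply₁₁, hD] at h6
      simp at h6
      exact hm1 h6
    · have h5 := congrArg (fun g : Matrix.symplecticGroup (Fin m) F => g • (Pi.single (Sum.inl i₁) (1 : F) : Fin m ⊕ Fin m → F)) h4
      simp only [Cfsg.Agent.Lib.SpCenter.negOne_smul] at h5
      have h6 := congrFun h5 (Sum.inl i₁)
      change (B *ᵥ (Pi.single (Sum.inl i₁) (1 : F) : Fin m ⊕ Fin m → F)) (Sum.inl i₁) = _ at h6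
      rw [Matrix.mulVec_single_one] at h6
      have h7 : B (Sum.inl i₁) (Sum.inl i₁) = 1 := by
        rw [hB, Matrix.fromBlocks_apply₁₁, hD]
        simp [h01.symm]
      simp only [Matrix.col_apply, Pi.neg_apply, Pi.single_eq_same] at h6
      rw [h7] at h6
      exact hm1 h6.symm

/-- The statement for the standard symplectic graph automorphism. -/
theorem bal_symp [Fintype F] {r : ℕ} (hr : r.Prime) [CharP F r] (hr2 : r ≠ 2) (hm : 2 ≤ m) (e : Fin m ⊕ Fin m ≃ Fin n)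
    (hn3 : 3 ≤ n) (hcent : Subgroup.center (ProjectiveSpecialLinearGroup (Fin n) F) = ⊥) :
    ¬ Nat.Coprime 2 (Nat.card (fixP (gr (rG e (jG F m)⁻¹)))) ∧
    ∀ A' : Subgroup (MulAut (ProjectiveSpecialLinearGroup (Fin n) F)),
      (∀ k : ProjectiveSpecialLinearGroup (Fin n) F, MulAut.conj k ∈ A') →
      ((∃ N : Subgroup ↥(A' ⊓ Subgroup.centralizer {gr (rG e (jG F m)⁻¹)}), N.Normal ∧ (Nat.card N).Coprime 2 ∧ N ≠ ⊥) ↔
        Nat.Coprime 2 (Nat.card (fixP (gr (rG e (jG F m)⁻¹))))) := by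
  classical
  have h2 : (2 : F) ≠ 0 := by
    intro h
    have h3 : r ∣ 2 := (CharP.cast_eq_zero_iff F r 2).1 (by exact_mod_cast h)
    exact hr2 ((Nat.prime_dvd_prime_iff_eq hr Nat.prime_two).1 h3)
  have h3F : 3 ≤ Fintype.card F := by
    have h1 : 1 < Fintype.card F := Fintype.one_lt_card
    by_contra hcon
    have h4 : Fintype.card F = 2 := by omega
    apply h2
    have := FiniteField.cast_card_eq_zero F
    rw [h4] at this
    exact_mod_cast this
  have hn2 : 2 ≤ n := by omega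
  haveI hsimple := Cfsg.Agent.Lib.SpSimple.isSimpleGroup_PSp' (F := F) m hm (fun _ => h3F)
  apply form_core e hr hn3 hcent (jG F m) ?_ (spG m F) spG_injective (spG_det hm h3F) spG_iso spG_norm
  · apply noOdd_of_simple
    exact exists_invol_Sp hm h2
  · exact exists_invol_Sp hm h2
  · intro g τ hfix
    apply Sm_lines e hn2
    intro v hv
    let N : (Fin m ⊕ Fin m → F) → (Fin m ⊕ Fin m → F) := fun x => ω v x • v
    have hNs : ∀ x, ((spG m F (T v 1) : GL (Fin m ⊕ Fin m) F) : Matrix (Fin m ⊕ Fin m) (Fin m ⊕ Fin m) F) *ᵥ x = x + N x := by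
      intro x
      have := T_smul v (1 : F) x
      rw [one_mul] at this
      exact this
    have hNsmul : ∀ (c : F) x, N (c • x) = c • N x := by
      intro c x
      change ω v (c • x) • v = c • (ω v x • v)
      rw [ω_smul_right, mul_smul]
    have hNN : ∀ x, N (N x) = 0 := by
      intro x
      change ω v (ω v x • v) • v = 0
      rw [ω_smul_right, ω_self, mul_zero, zero_smul]
    have hN3 : ∀ x, N (N (N x)) = 0 := fun x => hNN _
    have hNv : N v = 0 := by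
      change ω v v • v = 0
      rw [ω_self, zero_smul]
    have hcomm := Sm_comm_nil e g τ (spG m F (T v 1)) (spG_det hm h3F _) (hfix _) hNs hNsmul hN3 hNv hv
    obtain ⟨x₀, hx₀⟩ := exists_ω_ne_zero hv
    exact line_of_comm (Sm_smul e g τ) hcomm (ψ := fun x => ω v x) (fun _ => rfl) hx₀ (Sm_ne_zero e g τ hv)
  · have hsk := rG_inv_skew e (jG F m) (by
      rw [jG_transpose]
      simp)
    rw [← orderOf_gr_skew hn3 _ hsk]
    exact pow_orderOf_eq_one _

end Cfsg.Agent.Lib.BalPSL
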