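import Cfsg.Agent.Lib.BalPSL.Rigid
import Cfsg.Agent.Lib.AutPSL.GraphFieldCent
import Cfsg.Agent.Lib.AutPSL.Faithful
import Cfsg.Agent.Lib.UnitarySimple

/-!
# Graph-field automorphisms of `PSL_n(F)`: the centraliser contains the involutions of `PSU_n`
-/

set_option autoImplicit false

namespace Cfsg.Agent.Lib.BalPSL

open Matrix
open scoped MatrixGroups
open Cfsg.Agent.Lib.AutPSL Cfsg.Agent.Lib.Hilbert90
open Cfsg.Agent.Lib.AutPOm (fixP mem_fixP conj_conj_aut eq_one_of_conj_eq_one)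

variable {F : Type*} [Field F] {n : ℕ}

lemma scalar_of_ee (hn : 1 ≤ n) {g : GL (Fin n) F} {α : F} (hα : α ≠ 0)
    (h : ∀ i, (g : Matrix (Fin n) (Fin n) F) *ᵥ ee i = α • ee i) :
    g = Matrix.GeneralLinearGroup.scalar (Fin n) (Units.mk0 α hα) := by
  apply Units.ext
  rw [scalar_coe]
  ext i j
  have h1 := congrFun (h j) i
  rw [Matrix.mulVec_single_one] at h1
  have h2 : (g : Matrix (Fin n) (Fin n) F) i j = α * (ee j : Fin n → F) i := by
    simpa using h1
  rw [h2]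
  by_cases hij : i = j
  · subst hij
    simp
  · simp [hij, ee_apply_ne hij]

lemma csAut_scalar_refl (c : Fˣ) :
    csAut (Matrix.GeneralLinearGroup.scalar (Fin n) c) (RingEquiv.refl F) = 1 := by
  have := csAut_scalar_mul (1 : GL (Fin n) F) (RingEquiv.refl F) c
  rw [one_mul] at this
  rw [this, csAut_one]

/-- The semilinear map attached to `csAut g τ`. -/
noncomputable def SS (g : GL (Fin n) F) (τ : F ≃+* F) (x : Fin n → F) : Fin n → F :=
  (g : Matrix (Fin n) (Fin n) F) *ᵥ vmap τ x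

lemma SS_add (g : GL (Fin n) F) (τ : F ≃+* F) (x y : Fin n → F) : SS g τ (x + y) = SS g τ x + SS g τ y := by
  rw [SS, vmap_add, Matrix.mulVec_add]
  rfl

lemma SS_smul (g : GL (Fin n) F) (τ : F ≃+* F) (c : F) (x : Fin n → F) : SS g τ (c • x) = τ c • SS g τ x := by
  rw [SS, vmap_smul, Matrix.mulVec_smul]
  rfl

lemma SS_ne_zero (g : GL (Fin n) F) (τ : F ≃+* F) {x : Fin n → F} (h : x ≠ 0) : SS g τ x ≠ 0 :=
  gl_mulVec_ne_zero g (vmap_ne_zero τ h)

/-- A transvection fixed by `csAut g τ` has its centre as eigenvector. -/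
lemma par_of_fix_pt (g : GL (Fin n) F) (τ : F ≃+* F) {v φ : Fin n → F} (h1 : φ ⬝ᵥ v = 0) (hv : v ≠ 0) (hφ : φ ≠ 0)
    (h : csAut g τ (pt v φ) = pt v φ) : ∃ a : F, a ≠ 0 ∧ SS g τ v = a • v := by
  rw [csAut_pt _ _ h1] at h
  have h3 : (vmap τ φ ᵥ* ((g⁻¹ : GL (Fin n) F) : Matrix (Fin n) (Fin n) F)) ⬝ᵥ ((g : Matrix (Fin n) (Fin n) F) *ᵥ vmap τ v) = 0 := by
    rw [← Matrix.dotProduct_mulVec, Matrix.mulVec_mulVec, gl_inv_mul, Matrix.one_mulVec, vmap_dot, h1, map_zero]
  obtain ⟨a, ha, hae⟩ := (par_of_pt_eq h1 h3 hv hφ h.symm).1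
  exact ⟨a, ha, hae⟩

section unitary

variable {q : ℕ}

/-- The map from `SU_n` to `PSL_n`. -/
noncomputable def wU : Cfsg.SU n F q →* ProjectiveSpecialLinearGroup (Fin n) F :=
  (QuotientGroup.mk' _).comp (Cfsg.SU n F q).subtype

lemma wU_apply (s : Cfsg.SU n F q) : wU s = QuotientGroup.mk (s : SpecialLinearGroup (Fin n) F) := rfl

lemma mem_SU_iff (s : SpecialLinearGroup (Fin n) F) :
    s ∈ Cfsg.SU n F q ↔ Matrix.SpecialLinearGroup.toGL s ∈ Cfsg.GU n F q := Iff.rfl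

variable (σ : F ≃+* F) (hq : ∀ x, σ x = x ^ q) (hσ2 : ∀ x, σ (σ x) = x)

include hq in
/-- Membership in `SU_n` in matrix form. -/
lemma mem_SU_iff' (s : SpecialLinearGroup (Fin n) F) :
    s ∈ Cfsg.SU n F q ↔ (s : Matrix (Fin n) (Fin n) F)ᵀ * (s : Matrix (Fin n) (Fin n) F).map σ = 1 := by
  rw [mem_SU_iff, mem_GU_iff σ hq]
  rfl

include hq hσ2 in
/-- Unitary transvections. -/
lemma tv_mem_SU {v : Fin n → F} (hv : v ⬝ᵥ vmap σ v = 0) {c : F} (hc : σ c = -c) :
    tv v (c • vmap σ v) ∈ Cfsg.SU n F q := by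
  have h0 : (c • vmap σ v) ⬝ᵥ v = 0 := by
    rw [smul_dotProduct, dotProduct_comm, hv, smul_zero]
  rw [mem_SU_iff' σ hq, tv_coe h0]
  have hφ : vmap σ (c • vmap σ v) = (-c) • v := by
    rw [vmap_smul, hc]
    congr 1
    funext i
    simp [hσ2]
  have e1 : (1 + vecMulVec v (c • vmap σ v))ᵀ = 1 + vecMulVec (c • vmap σ v) v := by
    rw [Matrix.transpose_add, Matrix.transpose_one]
    congr 1
    ext i j
    simp [vecMulVec_apply]
    ring
  have e2 : (1 + vecMulVec v (c • vmap σ v)).map σ = 1 + vecMulVec (vmap σ v) ((-c) • v) := by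
    ext i j
    by_cases hij : i = j
    · subst hij
      simp [vecMulVec_apply, hc, hσ2]
    · simp [vecMulVec_apply, hij, hc, hσ2]
  rw [e1, e2, add_mul, mul_add, mul_add, one_mul, one_mul, mul_one, vecMulVec_mul_vecMulVec, hv]
  ext i j
  simp [vecMulVec_apply, Matrix.one_apply]

include hq hσ2 in
lemma fix_wU (hn : 2 ≤ n) (hcent : Subgroup.center (ProjectiveSpecialLinearGroup (Fin n) F) = ⊥)
    (s : Cfsg.SU n F q) : (fa σ * itAut : MulAut (ProjectiveSpecialLinearGroup (Fin n) F)) (wU s) = wU s := by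
  apply fix_of_commute hcent
  rw [wU_apply, csAut_conj]
  exact commute_of_unitary hn σ hσ2 _ ((mem_SU_iff' σ hq _).mp s.2)

include hq in
lemma norm_wU [Fintype F] (hn : 2 ≤ n) (hord : orderOf σ = 2) {k : ProjectiveSpecialLinearGroup (Fin n) F}
    (hk : (fa σ * itAut : MulAut (ProjectiveSpecialLinearGroup (Fin n) F)) k = k) (t : Cfsg.SU n F q) :
    ∃ t' : Cfsg.SU n F q, k * wU t * k⁻¹ = wU t' := by
  obtain ⟨s, rfl⟩ := QuotientGroup.mk_surjective k
  set u : GL (Fin n) F := Matrix.SpecialLinearGroup.toGL s with hu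
  have hconj : MulAut.conj (QuotientGroup.mk s : ProjectiveSpecialLinearGroup (Fin n) F) = dl u := csAut_conj s
  have hcomm : Commute (dl u) (fa σ * itAut : MulAut (ProjectiveSpecialLinearGroup (Fin n) F)) := by
    rw [← hconj]
    exact commute_of_fix hk
  obtain ⟨d, hd⟩ := exists_unitary_of_commute hn σ hord u hcomm
  set u' := u * Matrix.GeneralLinearGroup.scalar (Fin n) d with hu'
  have hdl : dl u' = dl u := csAut_scalar_mul _ _ _
  have hu'GU : u' ∈ Cfsg.GU n F q := (mem_GU_iff σ hq _).mpr hd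
  set M : SpecialLinearGroup (Fin n) F := slMap u' (RingEquiv.refl F) (t : SpecialLinearGroup (Fin n) F) with hM
  have hMGU : M ∈ Cfsg.SU n F q := by
    rw [mem_SU_iff]
    have e : Matrix.SpecialLinearGroup.toGL M = u' * Matrix.SpecialLinearGroup.toGL (t : SpecialLinearGroup (Fin n) F) * u'⁻¹ := by
      apply Units.ext
      change (M : Matrix (Fin n) (Fin n) F) = _
      rw [hM, slMap_coe]
      simp only [Units.val_mul]
      congr 2
    rw [e]
    exact mul_mem (mul_mem hu'GU t.2) (inv_mem hu'GU)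
  refine ⟨⟨M, hMGU⟩, ?_⟩
  have h2 := (MulAut.conj_apply (QuotientGroup.mk s : ProjectiveSpecialLinearGroup (Fin n) F) (wU t))
  rw [hconj, ← hdl, wU_apply, csAut_mk, ← hM] at h2
  exact h2.symm

lemma dot3 {i₀ i₁ i₂ : Fin n} (h01 : i₀ ≠ i₁) (h02 : i₀ ≠ i₂) (h12 : i₁ ≠ i₂) (x₀ x₁ x₂ y₀ y₁ y₂ : F) :
    (x₀ • ee i₀ + x₁ • ee i₁ + x₂ • ee i₂ : Fin n → F) ⬝ᵥ (y₀ • ee i₀ + y₁ • ee i₁ + y₂ • ee i₂) =
      x₀ * y₀ + x₁ * y₁ + x₂ * y₂ := by
  simp only [add_dotProduct, dotProduct_add, smul_dotProduct, dotProduct_smul, ee_dot_self, ee_dot_ne h01,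
    ee_dot_ne h02, ee_dot_ne h12, ee_dot_ne h01.symm, ee_dot_ne h02.symm, ee_dot_ne h12.symm, smul_eq_mul]
  ring

include hσ2 in
/-- Rigidity for the unitary group. -/
lemma rigid_U [Fintype F] (hn3 : 3 ≤ n) (h2 : (2 : F) ≠ 0) (hord : orderOf σ = 2) (g : GL (Fin n) F) (τ : F ≃+* F)
    (hline : ∀ v : Fin n → F, v ≠ 0 → v ⬝ᵥ vmap σ v = 0 → ∃ a : F, a ≠ 0 ∧ SS g τ v = a • v) :
    csAut g τ = 1 := by
  set i₀ : Fin n := ⟨0, by omega⟩ with hi₀
  set i₁ : Fin n := ⟨1, by omega⟩ with hi₁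
  have h01 : i₀ ≠ i₁ := by
    intro h'
    have := congrArg Fin.val h'
    simp [hi₀, hi₁] at this
  obtain ⟨θ, hθ0, hθ⟩ : ∃ θ : F, θ ≠ 0 ∧ θ * σ θ = -1 := by
    obtain ⟨d, hd, hdn⟩ := exists_norm_eq σ (by omega) hord (c := -1) (neg_ne_zero.mpr one_ne_zero) (by simp)
    refine ⟨d, hd, ?_⟩
    rw [← hdn]
    simp [pnorm, Finset.prod_range_succ]
  have hσ21 : σ 2 = 2 := map_ofNat σ 2
  have hσh : σ (2⁻¹ : F) = 2⁻¹ := by rw [map_inv₀, hσ21]
  set A : F := (2 : F)⁻¹ with hA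
  have hA2 : 2 * A = 1 := mul_inv_cancel₀ h2
  -- the vectors
  have hv3 : ∀ j : Fin n, i₀ ≠ j → i₁ ≠ j → ∀ x₀ x₁ x₂ : F, vmap σ (x₀ • ee i₀ + x₁ • ee i₁ + x₂ • ee j : Fin n → F) = σ x₀ • ee i₀ + σ x₁ • ee i₁ + σ x₂ • ee j := by
    intro j _ _ x₀ x₁ x₂
    rw [vmap_add, vmap_add, vmap_smul, vmap_smul, vmap_smul, vmap_ee, vmap_ee, vmap_ee]
  -- isotropic vectors in the span
  have hiso : ∀ j : Fin n, i₀ ≠ j → i₁ ≠ j → ∀ x₀ x₁ x₂ : F, (x₀ • ee i₀ + x₁ • ee i₁ + x₂ • ee j : Fin n → F) ≠ 0 →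
      x₀ * σ x₀ + x₁ * σ x₁ + x₂ * σ x₂ = 0 →
      ∃ a : F, a ≠ 0 ∧ SS g τ (x₀ • ee i₀ + x₁ • ee i₁ + x₂ • ee j) = a • (x₀ • ee i₀ + x₁ • ee i₁ + x₂ • ee j : Fin n → F) := by
    intro j h0j h1j x₀ x₁ x₂ hne h
    apply hline _ hne
    rw [hv3 j h0j h1j, dot3 h01 h0j h1j]
    exact h
  set i₂ : Fin n := ⟨2, by omega⟩ with hi₂
  have h02 : i₀ ≠ i₂ := by
    intro h'
    have := congrArg Fin.val h'
    simp [hi₀, hi₂] at this
  have h12 : i₁ ≠ i₂ := by
    intro h'
    have := congrArg Fin.val h'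
    simp [hi₁, hi₂] at this
  have hA0 : A ≠ 0 := inv_ne_zero h2
  have hval : ∀ (j : Fin n), i₀ ≠ j → i₁ ≠ j → ∀ x₀ x₁ x₂ : F, (x₀ • ee i₀ + x₁ • ee i₁ + x₂ • ee j : Fin n → F) i₀ = x₀ ∧
      (x₀ • ee i₀ + x₁ • ee i₁ + x₂ • ee j : Fin n → F) i₁ = x₁ ∧ (x₀ • ee i₀ + x₁ • ee i₁ + x₂ • ee j : Fin n → F) j = x₂ := by
    intro j h0j h1j x₀ x₁ x₂
    refine ⟨?_, ?_, ?_⟩
    · simp [ee_apply_ne h01, ee_apply_ne h0j]
    · simp [ee_apply_ne h01.symm, ee_apply_ne h1j]
    · simp [ee_apply_ne h0j.symm, ee_apply_ne h1j.symm]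
  set e₀ : Fin n → F := ee i₀ + θ • ee i₁ with he₀
  set f₀ : Fin n → F := A • (ee i₀ - θ • ee i₁) with hf₀
  have he₀' : ∀ j : Fin n, e₀ = (1 : F) • ee i₀ + θ • ee i₁ + (0 : F) • ee j := by
    intro j
    rw [he₀]
    module
  have hf₀' : ∀ j : Fin n, f₀ = A • ee i₀ + (-(A * θ)) • ee i₁ + (0 : F) • ee j := by
    intro j
    rw [hf₀]
    module
  obtain ⟨α, hα0, hα⟩ : ∃ α : F, α ≠ 0 ∧ SS g τ e₀ = α • e₀ := by
    rw [he₀' i₂]
    apply hiso i₂ h02 h12
    · intro h0
      have := congrFun h0 i₀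
      rw [(hval i₂ h02 h12 1 θ 0).1] at this
      exact one_ne_zero this
    · rw [map_one, map_zero]
      linear_combination hθ
  obtain ⟨β, hβ0, hβ⟩ : ∃ β : F, β ≠ 0 ∧ SS g τ f₀ = β • f₀ := by
    rw [hf₀' i₂]
    apply hiso i₂ h02 h12
    · intro h0
      have := congrFun h0 i₀
      rw [(hval i₂ h02 h12 A _ 0).1] at this
      exact hA0 this
    · rw [map_zero, map_neg, map_mul, hσh]
      linear_combination A ^ 2 * hθ
  -- the main step
  have hmain : ∀ j : Fin n, i₀ ≠ j → i₁ ≠ j → SS g τ (ee j) = α • ee j ∧ (∀ c, τ c = c) ∧ β = α := by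
    intro j h0j h1j
    have hw : ∀ c : F, ∃ l : F, SS g τ (e₀ + c • ee j + (-(A * (c * σ c))) • f₀) = l • (e₀ + c • ee j + (-(A * (c * σ c))) • f₀) := by
      intro c
      set a : F := -(A * (c * σ c)) with ha
      have hσa : σ a = a := by
        rw [ha, map_neg, map_mul, map_mul, hσh, hσ2, mul_comm (σ c) c]
      have e1 : e₀ + c • ee j + a • f₀ = (1 + a * A) • ee i₀ + (θ - a * A * θ) • ee i₁ + c • ee j := by
        rw [he₀, hf₀]
        module
      rw [e1]
      obtain ⟨l, -, hl⟩ := hiso j h0j h1j (1 + a * A) (θ - a * A * θ) c (by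
        intro h0
        have h3 := congrFun h0 i₀
        have h4 := congrFun h0 i₁
        rw [(hval j h0j h1j _ _ _).1] at h3
        rw [(hval j h0j h1j _ _ _).2.1] at h4
        have h5 : θ * (1 - a * A) = 0 := by
          simp only [Pi.zero_apply] at h4
          linear_combination h4
        have h6 := (mul_eq_zero.mp h5).resolve_left hθ0
        apply h2
        have h7 : (1 + a * A) + (1 - a * A) = 2 := by ring
        rw [← h7, h6, add_zero]
        simpa using h3) (by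
        simp only [map_add, map_sub, map_mul, map_one, hσa, hσh]
        have e2 : (1 + a * A) * (1 + a * A) + (θ - a * A * θ) * (σ θ - a * A * σ θ) + c * σ c =
            (1 + a * A) ^ 2 + (θ * σ θ) * (1 - a * A) ^ 2 + c * σ c := by ring
        rw [e2, hθ, ha]
        have e3 : A * A * 4 = 1 := by
          have : (2 * A) * (2 * A) = 1 := by rw [hA2, one_mul]
          linear_combination this
        linear_combination (-(c * σ c)) * e3)
      exact ⟨l, hl⟩
    have hindep : ∀ x₁ x₂ x₃ : F, x₁ • e₀ + x₂ • ee j + x₃ • f₀ = 0 → x₁ = 0 ∧ x₂ = 0 ∧ x₃ = 0 := by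
      intro x₁ x₂ x₃ h0
      have e1 : x₁ • e₀ + x₂ • ee j + x₃ • f₀ = (x₁ + x₃ * A) • ee i₀ + (x₁ * θ - x₃ * A * θ) • ee i₁ + x₂ • ee j := by
        rw [he₀, hf₀]
        module
      rw [e1] at h0
      have h3 := congrFun h0 i₀
      have h4 := congrFun h0 i₁
      have h5 := congrFun h0 j
      rw [(hval j h0j h1j _ _ _).1] at h3
      rw [(hval j h0j h1j _ _ _).2.1] at h4
      rw [(hval j h0j h1j _ _ _).2.2] at h5
      simp only [Pi.zero_apply] at h3 h4 h5
      have h6 : θ * (x₁ - x₃ * A) = 0 := by linear_combination h4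
      have h7 := (mul_eq_zero.mp h6).resolve_left hθ0
      have h8 : 2 * x₁ = 0 := by linear_combination h3 + h7
      have h9 := (mul_eq_zero.mp h8).resolve_left h2
      have h10 : x₃ * A = 0 := by linear_combination h3 - h9
      have h11 := (mul_eq_zero.mp h10).resolve_right hA0
      exact ⟨h9, h5, h11⟩
    apply core_sem h2 (SS_add g τ) (SS_smul g τ) hindep hα0 hα hβ
    intro c
    refine ⟨-(A * (c * σ c)), ?_, hw c, ?_⟩
    · rintro rfl
      simp only [map_one, mul_one]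
      exact neg_ne_zero.mpr hA0
    · obtain ⟨m, hm⟩ := hw (-c)
      have e1 : -(A * (-c * σ (-c))) = -(A * (c * σ c)) := by
        rw [map_neg]
        ring
      rw [e1] at hm
      have e2 : e₀ + (-c) • ee j + (-(A * (c * σ c))) • f₀ = e₀ - c • ee j + (-(A * (c * σ c))) • f₀ := by
        rw [neg_smul, sub_eq_add_neg]
      rw [e2] at hm
      exact ⟨m, hm⟩
  obtain ⟨-, hτ, hβα⟩ := hmain i₂ h02 h12
  subst hβα
  have hτr : τ = RingEquiv.refl F := by
    ext x
    exact hτ x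
  subst hτr
  have hS : ∀ x, SS g (RingEquiv.refl F) x = (g : Matrix (Fin n) (Fin n) F) *ᵥ x := by
    intro x
    rw [SS]
    congr 1
  have hg : ∀ i, (g : Matrix (Fin n) (Fin n) F) *ᵥ ee i = β • ee i := by
    intro i
    by_cases hi0 : i = i₀
    · subst hi0
      have e1 : (ee i₀ : Fin n → F) = A • e₀ + f₀ := by
        rw [he₀, hf₀]
        have : ((2 * A) • ee i₀ : Fin n → F) = ee i₀ := by rw [hA2, one_smul]
        conv_lhs => rw [← this]
        module
      have h1 := SS_add g (RingEquiv.refl F) (A • e₀) f₀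
      rw [← e1, SS_smul, hα, hβ] at h1
      rw [← hS, h1]
      conv_rhs => rw [e1]
      simp only [RingEquiv.refl_apply]
      module
    · by_cases hi1 : i = i₁
      · subst hi1
        have e1 : θ • (ee i₁ : Fin n → F) = A • e₀ - f₀ := by
          rw [he₀, hf₀]
          have : ((2 * A) • (θ • ee i₁) : Fin n → F) = θ • ee i₁ := by rw [hA2, one_smul]
          conv_lhs => rw [← this]
          module
        have h1 : SS g (RingEquiv.refl F) (θ • ee i₁) = β • (θ • ee i₁) := by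
          rw [e1, sub_eq_add_neg, SS_add]
          have h3 : SS g (RingEquiv.refl F) (-f₀) = -(β • f₀) := by
            have := SS_smul g (RingEquiv.refl F) (-1) f₀
            simp only [neg_smul, one_smul, RingEquiv.refl_apply] at this
            rw [this, hβ]
          rw [h3, SS_smul, hα]
          simp only [RingEquiv.refl_apply]
          module
        rw [SS_smul] at h1
        simp only [RingEquiv.refl_apply] at h1
        rw [← hS]
        apply smul_right_injective _ hθ0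
        simp only
        rw [h1, smul_comm]
      · have := (hmain i (Ne.symm hi0) (Ne.symm hi1)).1
        rwa [hS] at this
  rw [scalar_of_ee (by omega) hβ0 hg, csAut_scalar_refl]

include hq hσ2 in
/-- The lines of the unitary transvections. -/
lemma line_U [Fintype F] (hord : orderOf σ = 2) (hn : 2 ≤ n) (g : GL (Fin n) F) (τ : F ≃+* F)
    (h : ∀ e ∈ (wU (n := n) (F := F) (q := q)).range, csAut g τ e = e)
    (v : Fin n → F) (hv0 : v ≠ 0) (hv : v ⬝ᵥ vmap σ v = 0) : ∃ a : F, a ≠ 0 ∧ SS g τ v = a • v := by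
  obtain ⟨c, hc0, hc⟩ : ∃ c : F, c ≠ 0 ∧ σ c = -c := by
    have hne : σ ≠ 1 := by
      rintro rfl
      rw [orderOf_one] at hord
      omega
    obtain ⟨x, hx⟩ : ∃ x, σ x ≠ x := by
      by_contra hcon
      push Not at hcon
      exact hne (RingEquiv.ext hcon)
    refine ⟨x - σ x, sub_ne_zero.mpr (Ne.symm hx), ?_⟩
    rw [map_sub, hσ2]
    ring
  have hmem := tv_mem_SU σ hq hσ2 hv hc
  have h0 : (c • vmap σ v) ⬝ᵥ v = 0 := by
    rw [smul_dotProduct, dotProduct_comm, hv, smul_zero]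
  have hφ : c • vmap σ v ≠ 0 := smul_ne_zero hc0 (vmap_ne_zero σ hv0)
  apply par_of_fix_pt g τ h0 hv0 hφ
  exact h _ ⟨⟨_, hmem⟩, rfl⟩

include hq hσ2 in
/-- Rigidity on the image of `SU_n`. -/
lemma rigid_wU [Fintype F] (hn3 : 3 ≤ n) (h2 : (2 : F) ≠ 0) (hord : orderOf σ = 2) (g : GL (Fin n) F) (τ : F ≃+* F)
    (h : ∀ e ∈ (wU (n := n) (F := F) (q := q)).range, csAut g τ e = e) : csAut g τ = 1 :=
  rigid_U σ hσ2 hn3 h2 hord g τ (line_U σ hq hσ2 hord (by omega) g τ h)

end unitary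

/-- The involution of `PSU_n`. -/
lemma exists_invol_U {q : ℕ} (σ : F ≃+* F) (hq : ∀ x, σ x = x ^ q) (hn3 : 3 ≤ n) (h2 : (2 : F) ≠ 0) :
    ∃ e ∈ (wU (n := n) (F := F) (q := q)).range, orderOf e = 2 := by
  classical
  set i₀ : Fin n := ⟨0, by omega⟩ with hi₀
  set i₁ : Fin n := ⟨1, by omega⟩ with hi₁
  set i₂ : Fin n := ⟨2, by omega⟩ with hi₂
  have h01 : i₀ ≠ i₁ := by
    intro h'
    have := congrArg Fin.val h'
    simp [hi₀, hi₁] at this
  have h02 : i₂ ≠ i₀ := by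
    intro h'
    have := congrArg Fin.val h'
    simp [hi₀, hi₂] at this
  have h12 : i₂ ≠ i₁ := by
    intro h'
    have := congrArg Fin.val h'
    simp [hi₁, hi₂] at this
  have hm1 : (-1 : F) ≠ 1 := by
    intro h
    apply h2
    linear_combination -h
  let D : GL (Fin n) F := dg i₀ (-1) * dg i₁ (-1)
  have hDdet : ((D : Matrix (Fin n) (Fin n) F)).det = 1 := by
    have : Matrix.GeneralLinearGroup.det D = 1 := by
      change Matrix.GeneralLinearGroup.det (dg i₀ (-1) * dg i₁ (-1)) = 1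
      rw [map_mul, dg_det, dg_det]
      simp
    have h3 := congrArg Units.val this
    rwa [Matrix.GeneralLinearGroup.val_det_apply] at h3
  let d : SpecialLinearGroup (Fin n) F := ⟨D, hDdet⟩
  have hdent : (d : Matrix (Fin n) (Fin n) F) = Matrix.diagonal (fun i => (if i = i₀ then -1 else 1) * (if i = i₁ then -1 else 1)) := by
    change ((dg i₀ (-1) * dg i₁ (-1) : GL (Fin n) F) : Matrix (Fin n) (Fin n) F) = _
    rw [Units.val_mul, dg_coe, dg_coe, Matrix.diagonal_mul_diagonal]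
    congr 2
  have hdm : d ∈ Cfsg.SU n F q := by
    rw [mem_SU_iff' σ hq, hdent, Matrix.diagonal_transpose]
    ext i j
    by_cases hij : i = j
    · subst hij
      by_cases h3 : i = i₀
      · simp [h3, h01, Matrix.mul_apply, Matrix.map_apply, Matrix.diagonal_apply]
      · by_cases h4 : i = i₁
        · simp [h4, h01.symm, Matrix.mul_apply, Matrix.map_apply, Matrix.diagonal_apply]
        · simp [h3, h4, Matrix.mul_apply, Matrix.map_apply, Matrix.diagonal_apply]
    · simp [hij, Matrix.mul_apply, Matrix.map_apply, Matrix.diagonal_apply, Matrix.one_apply]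
  haveI : Fact (Nat.Prime 2) := ⟨Nat.prime_two⟩
  refine ⟨wU ⟨d, hdm⟩, ⟨_, rfl⟩, ?_⟩
  apply orderOf_eq_prime
  · rw [wU_apply, ← QuotientGroup.mk_pow]
    have : d ^ 2 = 1 := by
      apply sl_ext
      rw [Matrix.SpecialLinearGroup.coe_pow, hdent, Matrix.diagonal_pow, coe_one', ← Matrix.diagonal_one]
      congr 1
      funext i
      simp only [Pi.pow_apply, mul_pow]
      by_cases h3 : i = i₀
      · simp [h3, h01]
      · by_cases h4 : i = i₁
        · simp [h4, h01.symm]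
        · simp [h3, h4]
    rw [this]
    rfl
  · rw [wU_apply]
    intro h3
    obtain ⟨c, hc⟩ := (mk_eq_one_iff d).mp h3
    have h5 := congrFun (congrFun hc i₀) i₀
    have h6 := congrFun (congrFun hc i₂) i₂
    rw [hdent] at h5 h6
    simp only [Matrix.diagonal_apply_eq, Matrix.smul_apply, Matrix.one_apply_eq, smul_eq_mul, mul_one, if_true, if_neg h01,
      if_neg h02, if_neg h12] at h5 h6
    apply hm1
    rw [h5, ← h6]

/-- The statement for a standard graph-field automorphism. -/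
theorem bal_graphField [Fintype F] {r : ℕ} [hr : Fact r.Prime] [CharP F r] (hr2 : r ≠ 2) (hn3 : 3 ≤ n)
    (hcent : Subgroup.center (ProjectiveSpecialLinearGroup (Fin n) F) = ⊥) (σ : F ≃+* F) (hord : orderOf σ = 2) :
    ¬ Nat.Coprime 2 (Nat.card (fixP (fa σ * itAut : MulAut (ProjectiveSpecialLinearGroup (Fin n) F)))) ∧
    ∀ A : Subgroup (MulAut (ProjectiveSpecialLinearGroup (Fin n) F)),
      (∀ k : ProjectiveSpecialLinearGroup (Fin n) F, MulAut.conj k ∈ A) →
      ((∃ N : Subgroup ↥(A ⊓ Subgroup.centralizer {(fa σ * itAut : MulAut (ProjectiveSpecialLinearGroup (Fin n) F))}),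
        N.Normal ∧ (Nat.card N).Coprime 2 ∧ N ≠ ⊥) ↔
        Nat.Coprime 2 (Nat.card (fixP (fa σ * itAut : MulAut (ProjectiveSpecialLinearGroup (Fin n) F))))) := by
  classical
  obtain ⟨f', hr', hF⟩ := FiniteField.card F r
  have hn2 : 2 ≤ n := by omega
  have h2 : (2 : F) ≠ 0 := by
    intro h
    have h3 : r ∣ 2 := by
      have := (CharP.cast_eq_zero_iff F r 2).1 (by exact_mod_cast h)
      exact this
    exact hr2 ((Nat.prime_dvd_prime_iff_eq hr.out Nat.prime_two).1 h3)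
  -- the power
  have hfin : Finite (F ≃+* F) := Finite.of_injective (fun e : F ≃+* F => (e : F → F)) DFunLike.coe_injective
  have hdvd : 2 ∣ (f' : ℕ) := by
    have h1 := orderOf_dvd_natCard σ
    rwa [hord, card_ringAut hF f'.pos] at h1
  obtain ⟨k, hk⟩ := hdvd
  have hk0 : 0 < k := by
    have := f'.pos
    omega
  rw [hk] at hF
  have hq := inv_aut_eq_pow hF hk0 σ hord
  set q := r ^ k with hqdef
  have hσ2 : ∀ x, σ (σ x) = x := by
    intro x
    have h1 : σ ^ 2 = 1 := by rw [← hord]; exact pow_orderOf_eq_one σ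
    have h3 := DFunLike.congr_fun h1 x
    rwa [pow_two] at h3
  have hF2 : Fintype.card F = q ^ 2 := by
    rw [hF, hqdef, ← pow_mul, mul_comm]
  have hq2 : q ≠ 2 := by
    intro h
    rw [hqdef] at h
    have : r ∣ 2 := by
      rw [← h]
      exact dvd_pow_self r (by omega)
    exact hr2 ((Nat.prime_dvd_prime_iff_eq hr.out Nat.prime_two).1 this)
  have hsimple := Cfsg.Agent.Lib.UnitarySimple.isSimple_PSU hF2 hn3 (fun h => hq2 h.2)
  have hrig := rigid_wU (n := n) σ hq hσ2 hn3 h2 hord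
  -- the kernel
  have hker : (wU (n := n) (F := F) (q := q)).ker = Subgroup.center (Cfsg.SU n F q) := by
    apply ker_eq_center
    · intro s hs
      rw [MonoidHom.mem_ker, wU_apply] at hs
      have h3 : (s : SpecialLinearGroup (Fin n) F) ∈ Subgroup.center (SpecialLinearGroup (Fin n) F) :=
        (QuotientGroup.eq_one_iff _).mp hs
      rw [Subgroup.mem_center_iff]
      intro t
      apply Subtype.ext
      exact Subgroup.mem_center_iff.mp h3 t
    · intro k hk
      apply eq_one_of_conj_eq_one hcent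
      obtain ⟨s, rfl⟩ := QuotientGroup.mk_surjective k
      rw [csAut_conj] at hk ⊢
      exact hrig _ _ hk
  haveI : IsSimpleGroup (wU (n := n) (F := F) (q := q)).range :=
    (rangeEquiv (wU (n := n) (F := F) (q := q)) hker).isSimpleGroup (H := Cfsg.PSU n F q)
  obtain ⟨e₀, he₀, he₀o⟩ := exists_invol_U σ hq hn3 h2
  apply graph_core hr.out hn3 hcent _ ⟨1, σ, rfl⟩ ?_ (wU (n := n) (F := F) (q := q)).range
  · rintro _ ⟨s, rfl⟩
    exact fix_wU σ hq hσ2 hn2 hcent s
  · rintro k hk _ ⟨t, rfl⟩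
    obtain ⟨t', ht'⟩ := norm_wU σ hq hn2 hord hk t
    exact ⟨t', ht'.symm⟩
  · apply noOdd_of_simple
    exact ⟨⟨e₀, he₀⟩, by rw [Subgroup.orderOf_mk, he₀o]⟩
  · exact ⟨e₀, he₀, he₀o⟩
  · exact hrig
  · rw [csAut_it_sq]
    have h1 : (1 : GL (Fin n) F) * glMap σ (invT 1) = 1 := by
      rw [invT_one, map_one, one_mul]
    have h3 : σ * σ = 1 := by
      rw [← pow_two, ← hord]
      exact pow_orderOf_eq_one σ
    rw [h1, h3]
    exact fa_one

end Cfsg.Agent.Lib.BalPSL
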